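import Mathlib

set_option autoImplicit false

/-! A Sylow argument showing that certain local subgroups of a simple group are not maximal. -/

namespace Cfsg.Agent.Lib.Helper5.PSL2MaxOdd

variable {G : Type*} [Group G]

theorem normalizer_eq_of_coatom [IsSimpleGroup G] (M V : Subgroup G) (hM : IsCoatom M)
    (hVM : V ≤ M) (hV : V ≠ ⊥) (hN : M ≤ Subgroup.normalizer (V : Set G)) :
    Subgroup.normalizer (V : Set G) = M := by
  by_contra h
  have hlt : M < Subgroup.normalizer (V : Set G) := lt_of_le_of_ne hN (Ne.symm h)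
  have htop := hM.2 _ hlt
  have hnorm : V.Normal := Subgroup.normalizer_eq_top_iff.mp htop
  rcases hnorm.eq_bot_or_eq_top with h1 | h1
  · exact hV h1
  · apply hM.1
    rw [eq_top_iff, ← h1]
    exact hVM

theorem factorization_of_eq (ℓ a m n : ℕ) (hℓ : ℓ.Prime) (hn : n = ℓ ^ a * m) (hm : ¬ ℓ ∣ m) :
    n.factorization ℓ = a := by
  have hm0 : m ≠ 0 := by rintro rfl; exact hm (dvd_zero _)
  rw [hn, Nat.factorization_mul (pow_ne_zero _ hℓ.ne_zero) hm0, Finsupp.add_apply,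
    hℓ.factorization_pow, Finsupp.single_eq_same, Nat.factorization_eq_zero_of_not_dvd hm,
    add_zero]

/-- the main Sylow argument -/
theorem not_coatom_of_sylow [Finite G] [IsSimpleGroup G] (ℓ : ℕ) [Fact ℓ.Prime] (a m : ℕ)
    (hG : Nat.card G = ℓ ^ a * m) (hm : ¬ ℓ ∣ m)
    (M V : Subgroup G) (hM : IsCoatom M) (hVM : V ≤ M)
    (hN : M ≤ Subgroup.normalizer (V : Set G))
    (hV : Nat.card V = ℓ ^ a) (ha : a ≠ 0)
    (S Q K : Subgroup G) (hQ : Nat.card Q = ℓ ^ a) (hKS : K ≤ S)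
    (hKQ : K ≤ Subgroup.normalizer (Q : Set G)) (hK : Nat.card M ≤ Nat.card K)
    (hS1 : Nat.card S ≠ Nat.card M) (hS2 : S ≠ ⊤) : False := by
  have hℓ : ℓ.Prime := Fact.out
  have hfac : (Nat.card G).factorization ℓ = a := factorization_of_eq ℓ a m _ hℓ hG hm
  have hVbot : V ≠ ⊥ := by
    intro h
    rw [h, Subgroup.card_bot] at hV
    have : 1 < ℓ ^ a := Nat.one_lt_pow ha hℓ.one_lt
    omega
  have hNV := normalizer_eq_of_coatom M V hM hVM hVbot hN
  set P₁ : Sylow ℓ G := Sylow.ofCard V (by rw [hfac]; exact hV) with hP₁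
  set P₂ : Sylow ℓ G := Sylow.ofCard Q (by rw [hfac]; exact hQ) with hP₂
  have c1 : (P₁ : Subgroup G) = V := Sylow.coe_ofCard _ _
  have c2 : (P₂ : Subgroup G) = Q := Sylow.coe_ofCard _ _
  obtain ⟨g, hg⟩ := MulAction.exists_smul_eq G P₁ P₂
  -- `K` is contained in the conjugate of `M`
  have hKM : K ≤ M.map (MulAut.conj g).toMonoidHom := by
    intro k hk
    have h1 : k ∈ Subgroup.normalizer ((P₂ : Subgroup G) : Set G) := by rw [c2]; exact hKQ hk
    have h2 : k • P₂ = P₂ := Sylow.smul_eq_iff_mem_normalizer.mpr h1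
    have h3 : (g⁻¹ * k * g) • P₁ = P₁ := by
      rw [mul_smul, mul_smul, hg, h2, ← hg, inv_smul_smul]
    have h4 : g⁻¹ * k * g ∈ Subgroup.normalizer ((P₁ : Subgroup G) : Set G) :=
      Sylow.smul_eq_iff_mem_normalizer.mp h3
    rw [c1, hNV] at h4
    refine ⟨g⁻¹ * k * g, h4, ?_⟩
    show g * (g⁻¹ * k * g) * g⁻¹ = k
    group
  have hcM : Nat.card (M.map (MulAut.conj g).toMonoidHom) = Nat.card M :=
    Subgroup.card_map_of_injective (MulAut.conj g).injective
  have hKeq : K = M.map (MulAut.conj g).toMonoidHom :=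
    Subgroup.eq_of_le_of_card_ge hKM (by rw [hcM]; exact hK)
  have hco : IsCoatom (M.map (MulAut.conj g).toMonoidHom) :=
    ((MulAut.conj g).mapSubgroup.isCoatom_iff M).mpr hM
  have hle : M.map (MulAut.conj g).toMonoidHom ≤ S := by rw [← hKeq]; exact hKS
  rcases eq_or_lt_of_le hle with h | h
  · apply hS1
    rw [← h, hcM]
  · exact hS2 (hco.2 _ h)

/-- a subgroup of prime power order inside a given subgroup -/
theorem exists_sub_of_card [Finite G] (ℓ : ℕ) [Fact ℓ.Prime] (a : ℕ) (S : Subgroup G)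
    (h : ℓ ^ a ∣ Nat.card S) : ∃ Q : Subgroup G, Q ≤ S ∧ Nat.card Q = ℓ ^ a := by
  obtain ⟨Q', hQ'⟩ := Sylow.exists_subgroup_card_pow_prime (G := S) ℓ h
  exact ⟨Q'.map S.subtype, Subgroup.map_subtype_le _, by rw [Subgroup.card_subtype, hQ']⟩

/-- Sylow counting inside a subgroup: a large normaliser -/
theorem exists_sylow_normalizer [Finite G] (ℓ : ℕ) [Fact ℓ.Prime] (a m : ℕ) (S : Subgroup G)
    (hS : Nat.card S = ℓ ^ a * m) (hm : ¬ ℓ ∣ m) (b : ℕ)
    (hb : ∀ d : ℕ, d ∣ m → d % ℓ = 1 % ℓ → b * d ≤ ℓ ^ a * m) :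
    ∃ Q K : Subgroup G, Nat.card Q = ℓ ^ a ∧ K ≤ S ∧
      K ≤ Subgroup.normalizer (Q : Set G) ∧ b ≤ Nat.card K := by
  have hℓ : ℓ.Prime := Fact.out
  have hfac : (Nat.card S).factorization ℓ = a := factorization_of_eq ℓ a m _ hℓ hS hm
  obtain ⟨P⟩ : Nonempty (Sylow ℓ S) := inferInstance
  have hP : Nat.card (P : Subgroup S) = ℓ ^ a := by rw [Sylow.card_eq_multiplicity, hfac]
  have hidx : (P : Subgroup S).index = m := by
    have h1 := (P : Subgroup S).card_mul_index
    rw [hP, hS] at h1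
    exact Nat.eq_of_mul_eq_mul_left (pos_of_ne_zero (pow_ne_zero _ hℓ.ne_zero)) h1
  have hd1 : Nat.card (Sylow ℓ S) ∣ m := by rw [← hidx]; exact P.card_dvd_index
  have hd2 : Nat.card (Sylow ℓ S) % ℓ = 1 % ℓ := card_sylow_modEq_one ℓ S
  have hn : Nat.card (Sylow ℓ S) = (Subgroup.normalizer ((P : Subgroup S) : Set S)).index :=
    P.card_eq_index_normalizer
  have hle := hb _ hd1 hd2
  have hNc := (Subgroup.normalizer ((P : Subgroup S) : Set S)).card_mul_index
  rw [← hn, hS] at hNc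
  refine ⟨(P : Subgroup S).map S.subtype,
    (Subgroup.normalizer ((P : Subgroup S) : Set S)).map S.subtype, ?_, Subgroup.map_subtype_le _,
    Subgroup.le_normalizer_map _, ?_⟩
  · rw [Subgroup.card_subtype, hP]
  · rw [Subgroup.card_subtype]
    have hpos : 0 < Nat.card (Sylow ℓ S) := Nat.card_pos
    rw [← hNc] at hle
    exact Nat.le_of_mul_le_mul_right hle hpos

/-- a subgroup of index two in a subgroup is normalised by it -/
theorem le_normalizer_of_index_two (V P : Subgroup G) [Finite P] (hVP : V ≤ P)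
    (h : Nat.card P = 2 * Nat.card V) : P ≤ Subgroup.normalizer (V : Set G) := by
  have h1 := (V.subgroupOf P).card_mul_index
  rw [Nat.card_congr (Subgroup.subgroupOfEquivOfLe hVP).toEquiv, h, mul_comm 2] at h1
  have : Finite V := Finite.of_injective (Subgroup.inclusion hVP) (Subgroup.inclusion_injective hVP)
  have hpos : 0 < Nat.card V := Nat.card_pos
  have h2 : (V.subgroupOf P).index = 2 := Nat.eq_of_mul_eq_mul_left hpos h1
  have := Subgroup.normal_of_index_eq_two h2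
  exact (Subgroup.normal_subgroupOf_iff_le_normalizer hVP).mp this

/-- a maximal subgroup normalising a `2`-subgroup which is not a Sylow subgroup contains a larger
`2`-subgroup -/
theorem not_coatom_of_not_sylow_two [Finite G] [IsSimpleGroup G] (a : ℕ)
    (M V : Subgroup G) (hM : IsCoatom M) (hVM : V ≤ M)
    (hN : M ≤ Subgroup.normalizer (V : Set G)) (hV : Nat.card V = 2 ^ a) (ha : a ≠ 0)
    (hG : 2 ^ (a + 1) ∣ Nat.card G) (hMn : ¬ 2 ^ (a + 1) ∣ Nat.card M) : False := by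
  have : Fact (Nat.Prime 2) := ⟨Nat.prime_two⟩
  obtain ⟨P, hP, hVP⟩ := Sylow.exists_subgroup_card_pow_prime_le 2 hG V hV (Nat.le_succ a)
  have hPN : P ≤ Subgroup.normalizer (V : Set G) :=
    le_normalizer_of_index_two V P hVP (by rw [hP, hV, pow_succ]; ring)
  have hVbot : V ≠ ⊥ := by
    intro h
    rw [h, Subgroup.card_bot] at hV
    have : 1 < 2 ^ a := Nat.one_lt_pow ha (by norm_num)
    omega
  rw [normalizer_eq_of_coatom M V hM hVM hVbot hN] at hPN
  apply hMn
  rw [← hP]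
  exact Subgroup.card_dvd_of_le hPN

/-- the Sylow argument for a maximal subgroup of order `ℓ ^ a` or `2 ℓ ^ a` -/
theorem not_coatom_of_card [Finite G] [IsSimpleGroup G] (ℓ : ℕ) [Fact ℓ.Prime] (a m : ℕ)
    (hG : Nat.card G = ℓ ^ a * m) (hm : ¬ ℓ ∣ m) (M : Subgroup G) (hM : IsCoatom M) (ha : a ≠ 0)
    (hcM : Nat.card M = ℓ ^ a ∨ Nat.card M = 2 * ℓ ^ a)
    (S Q K : Subgroup G) (hQ : Nat.card Q = ℓ ^ a) (hKS : K ≤ S)
    (hKQ : K ≤ Subgroup.normalizer (Q : Set G)) (hK : Nat.card M ≤ Nat.card K)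
    (hS1 : Nat.card S ≠ Nat.card M) (hS2 : S ≠ ⊤) : False := by
  rcases hcM with h | h
  · exact not_coatom_of_sylow ℓ a m hG hm M M hM le_rfl Subgroup.le_normalizer h ha S Q K hQ hKS
      hKQ hK hS1 hS2
  · have hdvd : ℓ ^ a ∣ Nat.card M := ⟨2, by rw [h]; ring⟩
    obtain ⟨V, hVM, hV⟩ := exists_sub_of_card ℓ a M hdvd
    have hN : M ≤ Subgroup.normalizer (V : Set G) :=
      le_normalizer_of_index_two V M hVM (by rw [h, hV])
    exact not_coatom_of_sylow ℓ a m hG hm M V hM hVM hN hV ha S Q K hQ hKS hKQ hK hS1 hS2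

end Cfsg.Agent.Lib.Helper5.PSL2MaxOdd
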