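import Mathlib
import Cfsg.Agent.Lib.Helper5.PSL2KleinClasses

set_option autoImplicit false

/-! Fixed points of field endomorphisms on `PSL₂(F)`, and conjugation by invertible matrices. -/

namespace Cfsg.Agent.Lib.Helper5.PSL2MaxOdd

open Matrix Cfsg.Agent.Lib.Helper5.SL2Cyclic Cfsg.Agent.Lib.Helper5.SL2Quat
  Cfsg.Agent.Lib.Helper5.SL2Four Cfsg.Agent.Lib.Helper5.PSL2Pairs
  Cfsg.Agent.Lib.Helper5.PSL2KleinClasses Cfsg.Agent.Lib.Helper5.PairOrbits
open scoped MatrixGroups

variable {F : Type*} [Field F]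

local notation "SL2" => Matrix.SpecialLinearGroup (Fin 2) F
local notation "PSL2" => Matrix.ProjectiveSpecialLinearGroup (Fin 2) F

/-- conjugation by an invertible matrix, as an automorphism of `SL₂` -/
def cjEquiv (D D' : Matrix (Fin 2) (Fin 2) F) (h1 : D * D' = 1) (h2 : D' * D = 1) : SL2 ≃* SL2 where
  toFun X := ⟨D * X.1 * D', by
    rw [det_mul, det_mul, mul_right_comm, ← det_mul, h1, det_one, one_mul, X.2]⟩
  invFun X := ⟨D' * X.1 * D, by
    rw [det_mul, det_mul, mul_right_comm, ← det_mul, h2, det_one, one_mul, X.2]⟩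
  left_inv X := by
    apply Subtype.ext
    show D' * (D * X.1 * D') * D = X.1
    calc D' * (D * X.1 * D') * D = (D' * D) * X.1 * (D' * D) := by simp only [Matrix.mul_assoc]
      _ = X.1 := by rw [h2, Matrix.one_mul, Matrix.mul_one]
  right_inv X := by
    apply Subtype.ext
    show D * (D' * X.1 * D) * D' = X.1
    calc D * (D' * X.1 * D) * D' = (D * D') * X.1 * (D * D') := by simp only [Matrix.mul_assoc]
      _ = X.1 := by rw [h1, Matrix.one_mul, Matrix.mul_one]
  map_mul' X Y := by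
    apply Subtype.ext
    show D * (X.1 * Y.1) * D' = (D * X.1 * D') * (D * Y.1 * D')
    calc D * (X.1 * Y.1) * D' = D * X.1 * 1 * Y.1 * D' := by
          rw [Matrix.mul_one]; simp only [Matrix.mul_assoc]
      _ = (D * X.1 * D') * (D * Y.1 * D') := by rw [← h2]; simp only [Matrix.mul_assoc]

theorem cjEquiv_val (D D' : Matrix (Fin 2) (Fin 2) F) (h1 : D * D' = 1) (h2 : D' * D = 1) (X : SL2) :
    (cjEquiv D D' h1 h2 X).1 = D * X.1 * D' := rfl

/-- the induced automorphism of `PSL₂` -/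
noncomputable def cjP (D D' : Matrix (Fin 2) (Fin 2) F) (h1 : D * D' = 1) (h2 : D' * D = 1) :
    PSL2 ≃* PSL2 :=
  QuotientGroup.congr (Subgroup.center SL2) (Subgroup.center SL2) (cjEquiv D D' h1 h2)
    (Subgroup.characteristic_iff_map_eq.mp inferInstance (cjEquiv D D' h1 h2))

theorem cjP_mk (D D' : Matrix (Fin 2) (Fin 2) F) (h1 : D * D' = 1) (h2 : D' * D = 1) (X : SL2) :
    cjP D D' h1 h2 (QuotientGroup.mk X) = QuotientGroup.mk (cjEquiv D D' h1 h2 X) :=
  QuotientGroup.congr_mk _ _ _ _ _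

/-- the endomorphism of `SL₂` induced by a ring endomorphism -/
noncomputable abbrev TT (τ : F →+* F) : SL2 →* SL2 := Matrix.SpecialLinearGroup.map τ

theorem TT_val (τ : F →+* F) (X : SL2) : (TT τ X).1 = X.1.map τ := rfl

theorem TT_negOne (τ : F →+* F) : TT τ (negOne F) = negOne F := by
  apply Subtype.ext
  rw [TT_val]
  show (-1 : Matrix (Fin 2) (Fin 2) F).map τ = -1
  ext i j
  fin_cases i <;> fin_cases j <;> simp

theorem TT_qi (τ : F →+* F) : TT τ (qi F) = qi F := by
  apply Subtype.ext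
  rw [TT_val, qi_val]
  ext i j
  fin_cases i <;> fin_cases j <;> simp

theorem TT_qj (τ : F →+* F) (p r : F) (hpr : p ^ 2 + r ^ 2 = -1) (hp : τ p = p) (hr : τ r = r) :
    TT τ (qj p r hpr) = qj p r hpr := by
  apply Subtype.ext
  rw [TT_val, qj_val]
  ext i j
  fin_cases i <;> fin_cases j <;> simp [hp, hr]

/-- the subgroup of `PSL₂` fixed by a ring endomorphism -/
noncomputable def fixSub (τ : F →+* F) : Subgroup PSL2 :=
  (MonoidHom.eqLocus ((QuotientGroup.mk' (Subgroup.center SL2)).comp (TT τ))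
    (QuotientGroup.mk' (Subgroup.center SL2))).map (QuotientGroup.mk' (Subgroup.center SL2))

theorem mem_eqLocus_iff (h2 : (2 : F) ≠ 0) (τ : F →+* F) (X : SL2) :
    X ∈ MonoidHom.eqLocus ((QuotientGroup.mk' (Subgroup.center SL2)).comp (TT τ))
      (QuotientGroup.mk' (Subgroup.center SL2)) ↔ TT τ X = X ∨ TT τ X = X * negOne F := by
  show (QuotientGroup.mk (TT τ X) : PSL2) = QuotientGroup.mk X ↔ _
  rw [eq_comm, mk_eq_mk_iff h2]

theorem mk_mem_fixSub (h2 : (2 : F) ≠ 0) (τ : F →+* F) (X : SL2)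
    (h : TT τ X = X ∨ TT τ X = X * negOne F) : (QuotientGroup.mk X : PSL2) ∈ fixSub τ :=
  ⟨X, (mem_eqLocus_iff h2 τ X).mpr h, rfl⟩

theorem of_mk_mem_fixSub (h2 : (2 : F) ≠ 0) (τ : F →+* F) (X : SL2)
    (h : (QuotientGroup.mk X : PSL2) ∈ fixSub τ) : TT τ X = X ∨ TT τ X = X * negOne F := by
  obtain ⟨Y, hY, hYX⟩ := h
  have hYX' : (QuotientGroup.mk Y : PSL2) = QuotientGroup.mk X := hYX
  rw [← mem_eqLocus_iff h2]
  rcases (mk_eq_mk_iff h2 Y X).mp hYX' with h | h
  · rw [h]; exact hY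
  · rw [h]
    refine Subgroup.mul_mem _ hY ?_
    rw [mem_eqLocus_iff h2]
    left
    exact TT_negOne τ

/-- an upper unitriangular matrix -/
def uu (x : F) : SL2 := ⟨!![1, x; 0, 1], by simp [det_fin_two]⟩

theorem uu_val (x : F) : (uu x).1 = !![1, x; 0, 1] := rfl

theorem TT_uu (τ : F →+* F) (x : F) : TT τ (uu x) = uu (τ x) := by
  apply Subtype.ext
  rw [TT_val, uu_val, uu_val]
  ext i j
  fin_cases i <;> fin_cases j <;> simp

theorem eq_id_of_fixSub_top (h2 : (2 : F) ≠ 0) (τ : F →+* F) (h : fixSub τ = ⊤) (x : F) :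
    τ x = x := by
  have h1 : (QuotientGroup.mk (uu x) : PSL2) ∈ fixSub τ := by rw [h]; exact Subgroup.mem_top _
  rcases of_mk_mem_fixSub h2 τ _ h1 with h3 | h3
  · rw [TT_uu] at h3
    have := congrFun (congrFun (congrArg Subtype.val h3) 0) 1
    simpa [uu_val] using this
  · exfalso
    rw [TT_uu] at h3
    have h4 : (uu (τ x)).1 0 0 = (uu x * negOne F).1 0 0 := by rw [h3]
    have h5 : (uu x * negOne F).1 = (uu x).1 * (-1 : Matrix (Fin 2) (Fin 2) F) := rfl
    rw [h5, uu_val, uu_val] at h4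
    simp at h4
    apply h2
    linear_combination h4

/-- a maximal subgroup fixed elementwise up to sign, but not containing all fixed elements,
forces the endomorphism to be trivial -/
theorem tau_eq_id (h2 : (2 : F) ≠ 0) (τ : F →+* F) (M : Subgroup PSL2) (hM : IsCoatom M)
    (hfix : ∀ X : SL2, (QuotientGroup.mk X : PSL2) ∈ M → TT τ X = X ∨ TT τ X = X * negOne F)
    (Y : SL2) (hY : TT τ Y = Y) (hYM : (QuotientGroup.mk Y : PSL2) ∉ M) (x : F) : τ x = x := by
  apply eq_id_of_fixSub_top h2 τ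
  have hle : M ≤ fixSub τ := by
    intro g hg
    obtain ⟨X, rfl⟩ := QuotientGroup.mk_surjective g
    exact mk_mem_fixSub h2 τ X (hfix X hg)
  have hYm : (QuotientGroup.mk Y : PSL2) ∈ fixSub τ := mk_mem_fixSub h2 τ Y (Or.inl hY)
  apply hM.2
  exact lt_of_le_of_ne hle (fun h => hYM (by rw [h]; exact hYm))

open Polynomial in
theorem card_le_of_forall_pow_eq [Fintype F] (n : ℕ) (hn : 1 < n) (h : ∀ x : F, x ^ n = x) :
    Fintype.card F ≤ n := by
  classical
  have hne : (X ^ n - X : F[X]) ≠ 0 := FiniteField.X_pow_card_sub_X_ne_zero F hn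
  have hdeg : (X ^ n - X : F[X]).natDegree = n := FiniteField.X_pow_card_sub_X_natDegree_eq F hn
  have hsub : (Finset.univ : Finset F) ⊆ (X ^ n - X : F[X]).roots.toFinset := by
    intro x _
    rw [Multiset.mem_toFinset, Polynomial.mem_roots hne]
    simp [h x]
  calc Fintype.card F = (Finset.univ : Finset F).card := rfl
    _ ≤ (X ^ n - X : F[X]).roots.toFinset.card := Finset.card_le_card hsub
    _ ≤ Multiset.card (X ^ n - X : F[X]).roots := Multiset.toFinset_card_le _
    _ ≤ (X ^ n - X : F[X]).natDegree := Polynomial.card_roots' _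
    _ = n := hdeg

end Cfsg.Agent.Lib.Helper5.PSL2MaxOdd
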