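import Mathlib
import Cfsg.Agent.Lib.Helper5.PSL2MaxOdd.FrobFix

set_option autoImplicit false

/-! Normal form of a pair of commuting involutions of `PSL₂(F)` under automorphisms. -/

namespace Cfsg.Agent.Lib.Helper5.PSL2MaxOdd

open Matrix Cfsg.Agent.Lib.Helper5.SL2Cyclic Cfsg.Agent.Lib.Helper5.SL2Quat
  Cfsg.Agent.Lib.Helper5.SL2Four Cfsg.Agent.Lib.Helper5.PSL2Pairs
  Cfsg.Agent.Lib.Helper5.PSL2KleinClasses Cfsg.Agent.Lib.Helper5.PairOrbits
  Cfsg.Agent.Lib.Helper5.SumTwoSq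
open scoped MatrixGroups

variable {F : Type*} [Field F]

local notation "SL2" => Matrix.SpecialLinearGroup (Fin 2) F
local notation "PSL2" => Matrix.ProjectiveSpecialLinearGroup (Fin 2) F

theorem qj_mul_self_val (p r : F) (hpr : p ^ 2 + r ^ 2 = -1) :
    (qj p r hpr).1 * (qj p r hpr).1 = -1 := by
  rw [qj_val]
  ext i j
  fin_cases i <;> fin_cases j <;> simp
  · linear_combination hpr
  · ring
  · ring
  · linear_combination hpr

/-- the intertwiner of two standard second involutions -/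
def dd (p r p₀ r₀ : F) : Matrix (Fin 2) (Fin 2) F :=
  !![1 - (p₀ * p + r₀ * r), -(p₀ * r - r₀ * p); p₀ * r - r₀ * p, 1 - (p₀ * p + r₀ * r)]

theorem dd_det (p r p₀ r₀ : F) (hpr : p ^ 2 + r ^ 2 = -1) (hpr₀ : p₀ ^ 2 + r₀ ^ 2 = -1) :
    (dd p r p₀ r₀).det = 2 - 2 * (p₀ * p + r₀ * r) := by
  rw [dd, det_fin_two]
  simp only [of_apply, cons_val', cons_val_zero, cons_val_one, empty_val', cons_val_fin_one]
  linear_combination (p₀ ^ 2 + r₀ ^ 2) * hpr - hpr₀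

theorem dd_qi (p r p₀ r₀ : F) : dd p r p₀ r₀ * (qi F).1 = (qi F).1 * dd p r p₀ r₀ := by
  rw [dd, qi_val]
  ext i j
  fin_cases i <;> fin_cases j <;> simp

theorem dd_qj (p r p₀ r₀ : F) (hpr : p ^ 2 + r ^ 2 = -1) (hpr₀ : p₀ ^ 2 + r₀ ^ 2 = -1) :
    dd p r p₀ r₀ * (qj p r hpr).1 = (qj p₀ r₀ hpr₀).1 * dd p r p₀ r₀ := by
  rw [dd, qj_val, qj_val]
  ext i j
  fin_cases i <;> fin_cases j <;> simp
  · linear_combination p * hpr₀ - p₀ * hpr
  · linear_combination r * hpr₀ - r₀ * hpr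
  · linear_combination r * hpr₀ - r₀ * hpr
  · linear_combination p₀ * hpr - p * hpr₀

/-- when the intertwiner degenerates, the two involutions agree up to sign -/
theorem eq_of_dd_det (h2 : (2 : F) ≠ 0) (p r p₀ r₀ : F) (hpr : p ^ 2 + r ^ 2 = -1)
    (hpr₀ : p₀ ^ 2 + r₀ ^ 2 = -1) (h : (dd p r p₀ r₀).det = 0) :
    qj p₀ r₀ hpr₀ = qj p r hpr * negOne F := by
  rw [dd_det p r p₀ r₀ hpr hpr₀] at h
  have ha : p₀ * p + r₀ * r = 1 := by
    have : 2 * (1 - (p₀ * p + r₀ * r)) = 0 := by linear_combination h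
    rcases mul_eq_zero.mp this with h' | h'
    · exact absurd h' h2
    · linear_combination -h'
  have hb : (p₀ * r - r₀ * p) ^ 2 = 0 := by
    linear_combination (p₀ ^ 2 + r₀ ^ 2) * hpr - hpr₀ - (p₀ * p + r₀ * r + 1) * ha
  have hb' : p₀ * r - r₀ * p = 0 := by simpa using hb
  have e1 : p₀ = -p := by
    linear_combination -p₀ * ha + r₀ * hb' + p * hpr₀
  have e2 : r₀ = -r := by
    linear_combination -r₀ * ha - p₀ * hb' + r * hpr₀
  apply Subtype.ext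
  show (qj p₀ r₀ hpr₀).1 = (qj p r hpr).1 * (-1 : Matrix (Fin 2) (Fin 2) F)
  rw [qj_val, qj_val]
  ext i j
  fin_cases i <;> fin_cases j <;> simp [e1, e2]

/-- every pair of commuting involutions can be moved to a prescribed standard pair by an
automorphism of `PSL₂(F)` -/
theorem exists_aut [Fintype F] (hodd : Fintype.card F % 2 = 1) (x : PSL2 × PSL2)
    (hx : x ∈ PairSet PSL2) (p₀ r₀ : F) (hpr₀ : p₀ ^ 2 + r₀ ^ 2 = -1) :
    ∃ φ : PSL2 ≃* PSL2, φ x.1 = QuotientGroup.mk (qi F) ∧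
      φ x.2 = QuotientGroup.mk (qj p₀ r₀ hpr₀) := by
  have h2 : (2 : F) ≠ 0 := two_ne_zero_of_odd hodd
  obtain ⟨p, r, hpr, g, hg⟩ := exists_rel_Pw hodd x hx
  have hg1 : g * x.1 * g⁻¹ = QuotientGroup.mk (qi F) := congrArg Prod.fst hg
  have hg2 : g * x.2 * g⁻¹ = QuotientGroup.mk (qj p r hpr) := congrArg Prod.snd hg
  by_cases hdet : (dd p r p₀ r₀).det = 0
  · refine ⟨MulAut.conj g, ?_, ?_⟩
    · rw [MulAut.conj_apply, hg1]
    · rw [MulAut.conj_apply, hg2, eq_of_dd_det h2 p r p₀ r₀ hpr hpr₀ hdet]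
      exact ((mk_eq_mk_iff h2 _ _).mpr (Or.inr rfl))
  · have hu : IsUnit (dd p r p₀ r₀).det := isUnit_iff_ne_zero.mpr hdet
    have h1 : dd p r p₀ r₀ * (dd p r p₀ r₀)⁻¹ = 1 := Matrix.mul_nonsing_inv _ hu
    have h1' : (dd p r p₀ r₀)⁻¹ * dd p r p₀ r₀ = 1 := Matrix.nonsing_inv_mul _ hu
    refine ⟨(MulAut.conj g).trans (cjP _ _ h1 h1'), ?_, ?_⟩
    · rw [MulEquiv.trans_apply, MulAut.conj_apply, hg1, cjP_mk]
      congr 1
      apply Subtype.ext
      rw [cjEquiv_val, dd_qi, Matrix.mul_assoc, h1, Matrix.mul_one]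
    · rw [MulEquiv.trans_apply, MulAut.conj_apply, hg2, cjP_mk]
      congr 1
      apply Subtype.ext
      rw [cjEquiv_val, dd_qj p r p₀ r₀ hpr hpr₀, Matrix.mul_assoc, h1, Matrix.mul_one]

end Cfsg.Agent.Lib.Helper5.PSL2MaxOdd
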