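import Mathlib
import Cfsg.Agent.Lib.Helper5.PSL2MaxOdd.KleinNF

set_option autoImplicit false

/-! Traces of elements of small order in `PSL₂(F)`, and rationality criteria. -/

namespace Cfsg.Agent.Lib.Helper5.PSL2MaxOdd

open Matrix Cfsg.Agent.Lib.Helper5.SL2Cyclic Cfsg.Agent.Lib.Helper5.SL2Quat
  Cfsg.Agent.Lib.Helper5.SL2Four Cfsg.Agent.Lib.Helper5.PSL2Pairs
  Cfsg.Agent.Lib.Helper5.PSL2KleinClasses Cfsg.Agent.Lib.Helper5.PairOrbits
  Cfsg.Agent.Lib.Helper5.SumTwoSq
open scoped MatrixGroups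

variable {F : Type*} [Field F]

local notation "SL2" => Matrix.SpecialLinearGroup (Fin 2) F
local notation "PSL2" => Matrix.ProjectiveSpecialLinearGroup (Fin 2) F
local notation "M2" => Matrix (Fin 2) (Fin 2) F

theorem lin_mul (A : M2) (t : F) (hA : A * A = t • A - 1) (a b c d : F) :
    (a • A + b • (1 : M2)) * (c • A + d • (1 : M2)) =
      (a * c * t + a * d + b * c) • A + (b * d - a * c) • (1 : M2) := by
  have h : (a • A + b • (1 : M2)) * (c • A + d • (1 : M2)) =
      (a * c) • (A * A) + (a * d + b * c) • A + (b * d) • (1 : M2) := by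
    simp only [add_mul, mul_add, smul_mul_assoc, mul_smul_comm, mul_one, one_mul]
    module
  rw [h, hA]
  module

theorem pow_three_lin (A : M2) (t : F) (hA : A * A = t • A - 1) :
    A ^ 3 = (t ^ 2 - 1) • A + (-t) • (1 : M2) := by
  have h1 : A = (1 : F) • A + (0 : F) • (1 : M2) := by module
  have h2 : A * A = t • A + (-1 : F) • (1 : M2) := by rw [hA]; module
  have h3 : A ^ 3 = (A * A) * A := by rw [pow_succ, pow_two]
  rw [h3, h2]
  nth_rewrite 2 [h1]
  rw [lin_mul A t hA]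
  congr 1
  · congr 1; ring
  · congr 1; ring

theorem pow_five_lin (A : M2) (t : F) (hA : A * A = t • A - 1) :
    A ^ 5 = (t ^ 4 - 3 * t ^ 2 + 1) • A + (2 * t - t ^ 3) • (1 : M2) := by
  have h2 : A * A = t • A + (-1 : F) • (1 : M2) := by rw [hA]; module
  have h3 : A ^ 5 = A ^ 3 * (A * A) := by rw [← pow_two, ← pow_add]
  rw [h3, pow_three_lin A t hA, h2, lin_mul A t hA]
  congr 1
  · congr 1; ring
  · congr 1; ring

theorem cayley_SL (X : SL2) : X.1 * X.1 = X.1.trace • X.1 - 1 := by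
  rw [cayley2, X.2, one_smul]

/-- a matrix of determinant one proportional to the identity is `±1` -/
theorem scalar_of_smul (X : SL2) (a b : F) (h : a • X.1 = b • (1 : M2)) :
    a = 0 ∨ X = 1 ∨ X = negOne F := by
  by_cases ha : a = 0
  · left; exact ha
  right
  have h1 : X.1 = (a⁻¹ * b) • (1 : M2) := by
    calc X.1 = a⁻¹ • (a • X.1) := by rw [smul_smul, inv_mul_cancel₀ ha, one_smul]
      _ = (a⁻¹ * b) • (1 : M2) := by rw [h, smul_smul]
  have h3 : (a⁻¹ * b) * (a⁻¹ * b) = 1 := by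
    have := X.2
    rw [h1, det_smul, det_one, mul_one, Fintype.card_fin, pow_two] at this
    exact this
  rcases mul_self_eq_one_iff.mp h3 with h4 | h4
  · left
    apply Subtype.ext
    rw [h1, h4, one_smul]; rfl
  · right
    apply Subtype.ext
    rw [h1, h4, neg_smul, one_smul]; rfl

theorem val_pow (X : SL2) (n : ℕ) : (X ^ n).1 = X.1 ^ n := by
  induction n with
  | zero => rfl
  | succ k ih => rw [pow_succ, pow_succ, ← ih]; rfl

theorem pow_cases (h2 : (2 : F) ≠ 0) (X : SL2) (n : ℕ)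
    (h : (QuotientGroup.mk X : PSL2) ^ n = 1) : X.1 ^ n = 1 ∨ X.1 ^ n = -1 := by
  have h1 : (QuotientGroup.mk (1 : SL2) : PSL2) = QuotientGroup.mk (X ^ n) := by
    rw [QuotientGroup.mk_pow, h]; rfl
  rcases (mk_eq_mk_iff h2 _ _).mp h1 with h3 | h3
  · left
    have h4 : (X ^ n).1 = (1 : SL2).1 := congrArg Subtype.val h3
    rw [val_pow] at h4
    exact h4
  · right
    rw [one_mul] at h3
    have h4 : (X ^ n).1 = (negOne F).1 := congrArg Subtype.val h3
    rw [val_pow] at h4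
    exact h4

theorem lin_cases (X : SL2) (α β : F)
    (h : α • X.1 + β • (1 : M2) = 1 ∨ α • X.1 + β • (1 : M2) = -1) :
    α = 0 ∨ X = 1 ∨ X = negOne F := by
  rcases h with h | h
  · apply scalar_of_smul X α (1 - β)
    rw [eq_sub_of_add_eq h, sub_smul, one_smul]
  · apply scalar_of_smul X α (-1 - β)
    rw [eq_sub_of_add_eq h, sub_smul, neg_smul, one_smul]

theorem trace_of_pow_two (h2 : (2 : F) ≠ 0) (X : SL2)
    (h : (QuotientGroup.mk X : PSL2) ^ 2 = 1) : X.1.trace = 0 ∨ X = 1 ∨ X = negOne F := by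
  have h1 := pow_cases h2 X 2 h
  rw [pow_two, cayley_SL] at h1
  apply lin_cases X X.1.trace (-1)
  rw [neg_smul, one_smul, ← sub_eq_add_neg]
  exact h1

theorem trace_of_pow_three (h2 : (2 : F) ≠ 0) (X : SL2)
    (h : (QuotientGroup.mk X : PSL2) ^ 3 = 1) :
    X.1.trace ^ 2 - 1 = 0 ∨ X = 1 ∨ X = negOne F := by
  have h1 := pow_cases h2 X 3 h
  rw [pow_three_lin X.1 X.1.trace (cayley_SL X)] at h1
  exact lin_cases X _ _ h1

theorem trace_of_pow_five (h2 : (2 : F) ≠ 0) (X : SL2)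
    (h : (QuotientGroup.mk X : PSL2) ^ 5 = 1) :
    X.1.trace ^ 4 - 3 * X.1.trace ^ 2 + 1 = 0 ∨ X = 1 ∨ X = negOne F := by
  have h1 := pow_cases h2 X 5 h
  rw [pow_five_lin X.1 X.1.trace (cayley_SL X)] at h1
  exact lin_cases X _ _ h1

/-- a root of a quadratic with fixed coefficients is fixed by the square of an endomorphism -/
theorem quad_fixed (σ : F →+* F) (t ε : F) (hε : σ ε = ε) (h : t ^ 2 = ε * t + 1) :
    σ (σ t) = t := by
  have h' : (σ t) ^ 2 = ε * σ t + 1 := by rw [← map_pow, h, map_add, map_mul, hε, map_one]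
  have h0 : (σ t - t) * (σ t + t - ε) = 0 := by linear_combination h' - h
  rcases mul_eq_zero.mp h0 with h1 | h1
  · have e : σ t = t := by linear_combination h1
    rw [e, e]
  · have e : σ t = ε - t := by linear_combination h1
    rw [e, map_sub, hε, e]; ring

theorem quad_fixed_of_sqrt (h2 : (2 : F) ≠ 0) (σ : F →+* F) (s : F) (hs : s * s = 5)
    (hσ : σ s = s) (t ε : F) (hε : ε = 1 ∨ ε = -1) (h : t ^ 2 = ε * t + 1) : σ t = t := by
  have hε2 : ε ^ 2 = 1 := by rcases hε with rfl | rfl <;> ring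
  have hσε : σ ε = ε := by rcases hε with rfl | rfl <;> simp
  have h0 : (2 * t - ε - s) * (2 * t - ε + s) = 0 := by linear_combination 4 * h + hε2 - hs
  have key : ∀ u : F, σ u = u → 2 * t = u → σ t = t := by
    intro u hu h2t
    have : σ (2 * t) = 2 * t := by rw [h2t, hu]
    rw [map_mul, map_ofNat] at this
    exact mul_left_cancel₀ h2 this
  rcases mul_eq_zero.mp h0 with h1 | h1
  · apply key (ε + s) (by rw [map_add, hσε, hσ])
    linear_combination h1
  · apply key (ε - s) (by rw [map_sub, hσε, hσ])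
    linear_combination h1

theorem trace_one_SL : (1 : SL2).1.trace = 2 := by
  show (1 : M2).trace = 2
  rw [trace_fin_two]; simp; norm_num

theorem trace_negOne_SL : (negOne F).1.trace = -2 := by
  show (-1 : M2).trace = -2
  rw [trace_fin_two]; simp; norm_num

/-- the trace of an element of order `1`, `2`, `3` or `5` is fixed -/
theorem trace_fixed (h2 : (2 : F) ≠ 0) (τ : F →+* F)
    (hτ : ∀ t ε : F, (ε = 1 ∨ ε = -1) → t ^ 2 = ε * t + 1 → τ t = t) (X : SL2)
    (h : (QuotientGroup.mk X : PSL2) ^ 2 = 1 ∨ (QuotientGroup.mk X : PSL2) ^ 3 = 1 ∨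
      (QuotientGroup.mk X : PSL2) ^ 5 = 1) : τ X.1.trace = X.1.trace := by
  have hsc : X = 1 ∨ X = negOne F → τ X.1.trace = X.1.trace := by
    rintro (rfl | rfl)
    · rw [trace_one_SL, map_ofNat]
    · rw [trace_negOne_SL, map_neg, map_ofNat]
  rcases h with h | h | h
  · rcases trace_of_pow_two h2 X h with h1 | h1
    · rw [h1, map_zero]
    · exact hsc h1
  · rcases trace_of_pow_three h2 X h with h1 | h1
    · have : (X.1.trace - 1) * (X.1.trace + 1) = 0 := by linear_combination h1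
      rcases mul_eq_zero.mp this with h3 | h3
      · have : X.1.trace = 1 := by linear_combination h3
        rw [this, map_one]
      · have : X.1.trace = -1 := by linear_combination h3
        rw [this, map_neg, map_one]
    · exact hsc h1
  · rcases trace_of_pow_five h2 X h with h1 | h1
    · have : (X.1.trace ^ 2 - X.1.trace - 1) * (X.1.trace ^ 2 + X.1.trace - 1) = 0 := by
        linear_combination h1
      rcases mul_eq_zero.mp this with h3 | h3
      · exact hτ _ 1 (Or.inl rfl) (by linear_combination h3)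
      · exact hτ _ (-1) (Or.inr rfl) (by linear_combination h3)
    · exact hsc h1

theorem trace_TT (τ : F →+* F) (Y : SL2) : (TT τ Y).1.trace = τ Y.1.trace := by
  rw [TT_val, trace_fin_two, trace_fin_two, map_add]
  rfl

/-- a matrix is determined by its traces against the quaternion basis -/
theorem eq_zero_of_traces (h2 : (2 : F) ≠ 0) (p r : F) (hpr : p ^ 2 + r ^ 2 = -1) (Z : M2)
    (h0 : Z.trace = 0) (h1 : (Z * (qi F).1).trace = 0) (h3 : (Z * (qj p r hpr).1).trace = 0)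
    (h4 : (Z * (qi F * qj p r hpr).1).trace = 0) : Z = 0 := by
  rw [qi_mul_qj_val] at h4
  rw [qi_val] at h1
  rw [qj_val] at h3
  rw [trace_fin_two] at h0 h1 h3 h4
  simp [mul_apply, Fin.sum_univ_two] at h1 h3 h4
  have hu : Z 0 0 - Z 1 1 = 0 := by
    linear_combination -(p * h3 + r * h4) + (Z 0 0 - Z 1 1) * hpr
  have hv : Z 0 1 + Z 1 0 = 0 := by
    linear_combination -(r * h3 - p * h4) + (Z 0 1 + Z 1 0) * hpr
  have key : ∀ z : F, 2 * z = 0 → z = 0 := by
    intro z hz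
    rcases mul_eq_zero.mp hz with h | h
    · exact absurd h h2
    · exact h
  have e1 : Z 0 0 = 0 := key _ (by linear_combination h0 + hu)
  have e4 : Z 1 1 = 0 := key _ (by linear_combination h0 - hu)
  have e3 : Z 1 0 = 0 := key _ (by linear_combination hv + h1)
  have e2 : Z 0 1 = 0 := key _ (by linear_combination hv - h1)
  ext i j
  fin_cases i <;> fin_cases j <;> simp [e1, e2, e3, e4]

/-- elements whose traces against the standard quaternion units are fixed are fixed -/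
theorem fixed_of_traces (h2 : (2 : F) ≠ 0) (τ : F →+* F) (p₀ r₀ : F)
    (hpr₀ : p₀ ^ 2 + r₀ ^ 2 = -1) (hp : τ p₀ = p₀) (hr : τ r₀ = r₀) (M : Subgroup PSL2)
    (hi : (QuotientGroup.mk (qi F) : PSL2) ∈ M)
    (hj : (QuotientGroup.mk (qj p₀ r₀ hpr₀) : PSL2) ∈ M)
    (htr : ∀ Y : SL2, (QuotientGroup.mk Y : PSL2) ∈ M → τ Y.1.trace = Y.1.trace) (X : SL2)
    (hX : (QuotientGroup.mk X : PSL2) ∈ M) : TT τ X = X := by
  have key : ∀ E : SL2, TT τ E = E → (QuotientGroup.mk E : PSL2) ∈ M →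
      (((TT τ X).1 - X.1) * E.1).trace = 0 := by
    intro E hE hEM
    have h1 : (TT τ (X * E)).1.trace = τ (X * E).1.trace := trace_TT τ _
    rw [map_mul, hE, htr (X * E) (M.mul_mem hX hEM)] at h1
    rw [sub_mul, trace_sub, sub_eq_zero]
    exact h1
  have hZ : (TT τ X).1 - X.1 = 0 := by
    apply eq_zero_of_traces h2 p₀ r₀ hpr₀
    · have := key 1 (map_one _) M.one_mem
      rwa [show (1 : SL2).1 = (1 : M2) from rfl, mul_one] at this
    · exact key _ (TT_qi τ) hi
    · exact key _ (TT_qj τ p₀ r₀ hpr₀ hp hr) hj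
    · apply key
      · rw [map_mul, TT_qi, TT_qj τ p₀ r₀ hpr₀ hp hr]
      · exact M.mul_mem hi hj
  exact Subtype.ext (sub_eq_zero.mp hZ)

/-- lifts of the elements of the standard four-group are fixed -/
theorem TT_fixed_of_mem_kv (h2 : (2 : F) ≠ 0) (τ : F →+* F) (p₀ r₀ : F)
    (hpr₀ : p₀ ^ 2 + r₀ ^ 2 = -1) (hp : τ p₀ = p₀) (hr : τ r₀ = r₀) (E : SL2)
    (hE : (QuotientGroup.mk E : PSL2) ∈ kvP (Pw p₀ r₀ hpr₀) (Pw_mem h2 p₀ r₀ hpr₀)) :
    TT τ E = E := by
  have key : ∀ W : SL2, TT τ W = W → (QuotientGroup.mk E : PSL2) = QuotientGroup.mk W →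
      TT τ E = E := by
    intro W hW hEW
    rcases (mk_eq_mk_iff h2 _ _).mp hEW.symm with h | h
    · rw [h]; exact hW
    · rw [h, map_mul, hW, TT_negOne]
  rcases (mem_kvP _ _ _).mp hE with h | h | h | h
  · exact key 1 (map_one _) h
  · exact key _ (TT_qi τ) h
  · exact key _ (TT_qj τ p₀ r₀ hpr₀ hp hr) h
  · exact key (qi F * qj p₀ r₀ hpr₀) (by rw [map_mul, TT_qi, TT_qj τ p₀ r₀ hpr₀ hp hr]) h

/-- elements normalising the standard four-group are fixed up to sign -/
theorem fixed_of_normalizes (h2 : (2 : F) ≠ 0) (τ : F →+* F) (p₀ r₀ : F)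
    (hpr₀ : p₀ ^ 2 + r₀ ^ 2 = -1) (hp : τ p₀ = p₀) (hr : τ r₀ = r₀) (X : SL2)
    (h1 : (QuotientGroup.mk X : PSL2) * QuotientGroup.mk (qi F) * (QuotientGroup.mk X)⁻¹ ∈
      kvP (Pw p₀ r₀ hpr₀) (Pw_mem h2 p₀ r₀ hpr₀))
    (h3 : (QuotientGroup.mk X : PSL2) * QuotientGroup.mk (qj p₀ r₀ hpr₀) *
      (QuotientGroup.mk X)⁻¹ ∈ kvP (Pw p₀ r₀ hpr₀) (Pw_mem h2 p₀ r₀ hpr₀)) :
    TT τ X = X ∨ TT τ X = X * negOne F := by
  have key : ∀ W : SL2, TT τ W = W → TT τ (X * W * X⁻¹) = X * W * X⁻¹ →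
      (X⁻¹ * TT τ X) * W = W * (X⁻¹ * TT τ X) := by
    intro W hW hE
    have e : TT τ X * W * (TT τ X)⁻¹ = X * W * X⁻¹ := by
      rw [← hE, map_mul, map_mul, map_inv, hW]
    calc (X⁻¹ * TT τ X) * W = X⁻¹ * (TT τ X * W * (TT τ X)⁻¹) * TT τ X := by group
      _ = X⁻¹ * (X * W * X⁻¹) * TT τ X := by rw [e]
      _ = W * (X⁻¹ * TT τ X) := by group
  have c1 := key _ (TT_qi τ) (TT_fixed_of_mem_kv h2 τ p₀ r₀ hpr₀ hp hr _ h1)
  have c2 := key _ (TT_qj τ p₀ r₀ hpr₀ hp hr) (TT_fixed_of_mem_kv h2 τ p₀ r₀ hpr₀ hp hr _ h3)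
  rcases eq_of_commute h2 p₀ r₀ hpr₀ _ c1 c2 with h | h
  · left
    calc TT τ X = X * (X⁻¹ * TT τ X) := by group
      _ = X := by rw [h, mul_one]
  · right
    calc TT τ X = X * (X⁻¹ * TT τ X) := by group
      _ = X * negOne F := by rw [h]

end Cfsg.Agent.Lib.Helper5.PSL2MaxOdd
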