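import Mathlib
import Cfsg.Agent.Lib.Helper5.PSL2MaxOdd.Traces

set_option autoImplicit false

/-! Maximal subgroups of `PSL₂(F)` containing a four-group: the field of definition. -/

namespace Cfsg.Agent.Lib.Helper5.PSL2MaxOdd

open Matrix Cfsg.Agent.Lib.Helper5.SL2Cyclic Cfsg.Agent.Lib.Helper5.SL2Quat
  Cfsg.Agent.Lib.Helper5.SL2Four Cfsg.Agent.Lib.Helper5.PSL2Pairs
  Cfsg.Agent.Lib.Helper5.PSL2KleinClasses Cfsg.Agent.Lib.Helper5.PairOrbits
  Cfsg.Agent.Lib.Helper5.SumTwoSq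
open scoped MatrixGroups

variable {F : Type*} [Field F]

local notation "SL2" => Matrix.SpecialLinearGroup (Fin 2) F
local notation "PSL2" => Matrix.ProjectiveSpecialLinearGroup (Fin 2) F
local notation "M2" => Matrix (Fin 2) (Fin 2) F

theorem exists_fixed_sq_add_sq (p : ℕ) [Fact p.Prime] [CharP F p] :
    ∃ p₀ r₀ : F, p₀ ^ 2 + r₀ ^ 2 = -1 ∧ p₀ ^ p = p₀ ∧ r₀ ^ p = r₀ := by
  obtain ⟨a, b, hab⟩ := ZMod.sq_add_sq p (-1)
  refine ⟨ZMod.castHom (dvd_refl p) F a, ZMod.castHom (dvd_refl p) F b, ?_, ?_, ?_⟩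
  · rw [← map_pow, ← map_pow, ← map_add, hab, map_neg, map_one]
  · rw [← map_pow, ZMod.pow_card]
  · rw [← map_pow, ZMod.pow_card]

theorem isCoatom_map {G : Type*} [Group G] (φ : G ≃* G) (M : Subgroup G) (hM : IsCoatom M) :
    IsCoatom (M.map φ.toMonoidHom) :=
  (φ.mapSubgroup.isCoatom_iff M).mpr hM

/-- a maximal subgroup with a four-group, whose elements have orders `1, 2, 3, 5` -/
theorem tau_trivial_of_orders [Fintype F] (p : ℕ) [Fact p.Prime] [CharP F p]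
    (hodd : Fintype.card F % 2 = 1) (M : Subgroup PSL2) (hM : IsCoatom M) (x : PSL2 × PSL2)
    (hx : x ∈ PairSet PSL2) (hx1 : x.1 ∈ M) (hx2 : x.2 ∈ M)
    (hord : ∀ m ∈ M, m ^ 2 = 1 ∨ m ^ 3 = 1 ∨ m ^ 5 = 1)
    (τ : F →+* F) (hτp : ∀ a : F, a ^ p = a → τ a = a)
    (hτ : ∀ t ε : F, (ε = 1 ∨ ε = -1) → t ^ 2 = ε * t + 1 → τ t = t)
    (Y : SL2) (hY : TT τ Y = Y)
    (hYM : ∀ m ∈ M, orderOf m ≠ orderOf (QuotientGroup.mk Y : PSL2)) (a : F) : τ a = a := by
  have h2 : (2 : F) ≠ 0 := two_ne_zero_of_odd hodd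
  obtain ⟨p₀, r₀, hpr₀, hp₀, hr₀⟩ := exists_fixed_sq_add_sq (F := F) p
  obtain ⟨φ, hφ1, hφ2⟩ := exists_aut hodd x hx p₀ r₀ hpr₀
  have hM' : IsCoatom (M.map φ.toMonoidHom) := isCoatom_map φ M hM
  refine tau_eq_id h2 τ (M.map φ.toMonoidHom) hM' ?_ Y hY ?_ a
  · intro X hX
    left
    refine fixed_of_traces h2 τ p₀ r₀ hpr₀ (hτp _ hp₀) (hτp _ hr₀) (M.map φ.toMonoidHom)
      ⟨x.1, hx1, hφ1⟩ ⟨x.2, hx2, hφ2⟩ ?_ X hX
    intro Y' hY'
    obtain ⟨m, hm, hmY⟩ := hY'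
    have hmY' : φ m = QuotientGroup.mk Y' := hmY
    apply trace_fixed h2 τ hτ
    rw [← hmY']
    rcases hord m hm with h | h | h
    · left; rw [← map_pow, h, map_one]
    · right; left; rw [← map_pow, h, map_one]
    · right; right; rw [← map_pow, h, map_one]
  · rintro ⟨m, hm, hmY⟩
    have hmY' : φ m = QuotientGroup.mk Y := hmY
    apply hYM m hm
    rw [← hmY', φ.orderOf_eq]

/-- a maximal subgroup normalising a four-group -/
theorem tau_trivial_of_normal [Fintype F] (p : ℕ) [Fact p.Prime] [CharP F p]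
    (hodd : Fintype.card F % 2 = 1) (M : Subgroup PSL2) (hM : IsCoatom M) (x : PSL2 × PSL2)
    (hx : x ∈ PairSet PSL2)
    (hnorm : ∀ m ∈ M, m * x.1 * m⁻¹ ∈ kvP x hx ∧ m * x.2 * m⁻¹ ∈ kvP x hx)
    (τ : F →+* F) (hτp : ∀ a : F, a ^ p = a → τ a = a)
    (Y : SL2) (hY : TT τ Y = Y)
    (hYM : ∀ m ∈ M, orderOf m ≠ orderOf (QuotientGroup.mk Y : PSL2)) (a : F) : τ a = a := by
  have h2 : (2 : F) ≠ 0 := two_ne_zero_of_odd hodd
  obtain ⟨p₀, r₀, hpr₀, hp₀, hr₀⟩ := exists_fixed_sq_add_sq (F := F) p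
  obtain ⟨φ, hφ1, hφ2⟩ := exists_aut hodd x hx p₀ r₀ hpr₀
  have hM' : IsCoatom (M.map φ.toMonoidHom) := isCoatom_map φ M hM
  have hkv : ∀ z : PSL2, z ∈ kvP x hx →
      φ z ∈ kvP (Pw p₀ r₀ hpr₀) (Pw_mem h2 p₀ r₀ hpr₀) := by
    intro z hz
    rw [mem_kvP] at hz ⊢
    rcases hz with h | h | h | h
    · left; rw [h, map_one]
    · right; left; rw [h]; exact hφ1
    · right; right; left; rw [h]; exact hφ2
    · right; right; right; rw [h, map_mul, hφ1, hφ2]; rfl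
  refine tau_eq_id h2 τ (M.map φ.toMonoidHom) hM' ?_ Y hY ?_ a
  · intro X hX
    obtain ⟨m, hm, hmX⟩ := hX
    have hmX' : φ m = QuotientGroup.mk X := hmX
    obtain ⟨n1, n2⟩ := hnorm m hm
    apply fixed_of_normalizes h2 τ p₀ r₀ hpr₀ (hτp _ hp₀) (hτp _ hr₀) X
    · have := hkv _ n1
      rwa [map_mul, map_mul, map_inv, hφ1, hmX'] at this
    · have := hkv _ n2
      rwa [map_mul, map_mul, map_inv, hφ2, hmX'] at this
  · rintro ⟨m, hm, hmY⟩
    have hmY' : φ m = QuotientGroup.mk Y := hmY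
    apply hYM m hm
    rw [← hmY', φ.orderOf_eq]

theorem uu_mul (a b : F) : uu a * uu b = uu (a + b) := by
  apply Subtype.ext
  show (uu a).1 * (uu b).1 = (uu (a + b)).1
  rw [uu_val, uu_val, uu_val]
  ext i j
  fin_cases i <;> fin_cases j <;> simp [add_comm]

theorem uu_pow (a : F) (n : ℕ) : uu a ^ n = uu (n * a) := by
  induction n with
  | zero =>
    rw [pow_zero, Nat.cast_zero, zero_mul]
    apply Subtype.ext
    rw [uu_val]
    show (1 : M2) = _
    ext i j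
    fin_cases i <;> fin_cases j <;> simp
  | succ k ih =>
    rw [pow_succ, ih, uu_mul]
    congr 1
    push_cast
    ring

theorem orderOf_mk_uu (p : ℕ) [Fact p.Prime] [CharP F p] (h2 : (2 : F) ≠ 0) :
    orderOf (QuotientGroup.mk (uu (1 : F)) : PSL2) = p := by
  apply orderOf_eq_prime
  · rw [← QuotientGroup.mk_pow, uu_pow, mul_one, CharP.cast_eq_zero]
    have : uu (0 : F) = 1 := by
      apply Subtype.ext
      rw [uu_val]
      show _ = (1 : M2)
      ext i j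
      fin_cases i <;> fin_cases j <;> simp
    rw [this]; rfl
  · intro h
    have h1 : (QuotientGroup.mk (1 : SL2) : PSL2) = QuotientGroup.mk (uu (1 : F)) := h.symm
    rcases (mk_eq_mk_iff h2 _ _).mp h1 with h3 | h3
    · have := congrFun (congrFun (congrArg Subtype.val h3) 0) 1
      rw [uu_val] at this
      simp at this
    · rw [one_mul] at h3
      have := congrFun (congrFun (congrArg Subtype.val h3) 0) 1
      rw [uu_val] at this
      have h4 : (negOne F).1 0 1 = 0 := by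
        show (-1 : M2) 0 1 = 0
        simp
      rw [h4] at this
      simp at this

theorem orderOf_ne_of_not_dvd {G : Type*} [Group G] (M : Subgroup G) [Finite M] (n : ℕ)
    (h : ¬ n ∣ Nat.card M) (m : G) (hm : m ∈ M) : orderOf m ≠ n := by
  intro h1
  apply h
  rw [← h1]
  have := orderOf_dvd_natCard (⟨m, hm⟩ : M)
  rwa [← Subgroup.orderOf_coe] at this

theorem iterateFrobenius_fixed (p : ℕ) [Fact p.Prime] [CharP F p] (k : ℕ) (a : F)
    (h : a ^ p = a) : iterateFrobenius F p k a = a := by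
  rw [iterateFrobenius_def]
  induction k with
  | zero => rw [pow_zero, pow_one]
  | succ k ih => rw [pow_succ, pow_mul, ih, h]

/-- in the normal four-group case the field is the prime field -/
theorem card_le_of_normal [Fintype F] (p : ℕ) [Fact p.Prime] [CharP F p]
    (hodd : Fintype.card F % 2 = 1) (M : Subgroup PSL2) (hM : IsCoatom M) (x : PSL2 × PSL2)
    (hx : x ∈ PairSet PSL2)
    (hnorm : ∀ m ∈ M, m * x.1 * m⁻¹ ∈ kvP x hx ∧ m * x.2 * m⁻¹ ∈ kvP x hx)
    (hp : ¬ p ∣ Nat.card M) : Fintype.card F ≤ p := by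
  have h2 : (2 : F) ≠ 0 := two_ne_zero_of_odd hodd
  apply card_le_of_forall_pow_eq p (Fact.out : p.Prime).one_lt
  intro a
  have := tau_trivial_of_normal p hodd M hM x hx hnorm (iterateFrobenius F p 1)
    (iterateFrobenius_fixed p 1) (uu 1) (by rw [TT_uu, map_one])
    (by rw [orderOf_mk_uu p h2]; exact orderOf_ne_of_not_dvd M p hp) a
  rwa [iterateFrobenius_def, pow_one] at this

end Cfsg.Agent.Lib.Helper5.PSL2MaxOdd
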