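import Mathlib
import Cfsg.Agent.Lib.Helper5.PSL2Max4

set_option autoImplicit false

/-! Maximal subgroups of `PSL₂(q)`, `q` odd: the subfield case. -/

namespace Cfsg.Agent.Lib.Helper5.PSL2Tori

open Matrix Cfsg.Agent.Lib.Helper4 Cfsg.Agent.Lib.Helper5.Mob Cfsg.Agent.Lib.Helper5.MobPGL
  Cfsg.Agent.Lib.Helper5.MobWild Cfsg.Agent.Lib.Helper5.MobRat Cfsg.Agent.Lib.Helper5.DicksonBorel
  Cfsg.Agent.Lib.Helper5.DicksonMain Cfsg.Agent.Lib.Helper5.DicksonOrders
  Cfsg.Agent.Lib.Helper5.DicksonMax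
open scoped LinearAlgebra.Projectivization MatrixGroups

section sq

variable {K F E : Type*} [Field K] [Field F] [Field E]

/-- `PGL₂(K)` lies in the image of `PSL₂(F)` when the elements of `K` are squares in `F` -/
theorem pglRange_le_pslRange (σ : K →+* F)
    (hsq : ∀ a : K, a ≠ 0 → IsSquare (σ a)) :
    (ProjGenLinGroup.map (n := Fin 2) σ).range ≤
      (ProjectiveSpecialLinearGroup.toPGL (n := Fin 2) (R := F)).range := by
  rintro _ ⟨x, rfl⟩
  induction x using Matrix.ProjGenLinGroup.induction_on with | mk g =>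
  have hdet : (g.1).det ≠ 0 := by
    have := g.isUnit
    exact ((Matrix.isUnit_iff_isUnit_det _).mp ((Matrix.isUnit_iff_isUnit_det _).mpr
      (by simpa using (Matrix.isUnit_iff_isUnit_det g.1).mp ⟨g, rfl⟩))).ne_zero
  obtain ⟨s, hs⟩ := hsq _ hdet
  have hs0 : s ≠ 0 := by
    rintro rfl
    rw [mul_zero] at hs
    exact (map_ne_zero σ).mpr hdet hs
  have hdetS : (s⁻¹ • (g.1).map σ).det = 1 := by
    rw [Matrix.det_smul, Fintype.card_fin, ← RingHom.mapMatrix_apply, ← RingHom.map_det, hs]
    field_simp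
  refine ⟨QuotientGroup.mk (⟨s⁻¹ • (g.1).map σ, hdetS⟩ : SL(2, F)), ?_⟩
  rw [ProjGenLinGroup.map_mk]
  show ProjGenLinGroup.mk (SpecialLinearGroup.toGL (⟨s⁻¹ • (g.1).map σ, hdetS⟩ : SL(2, F))) = _
  rw [ProjGenLinGroup.mk_eq_mk_iff]
  refine ⟨Units.mk0 s hs0, ?_⟩
  apply Units.ext
  simp only [Units.val_mul, GeneralLinearGroup.coe_scalar, Units.val_mk0]
  rw [Matrix.scalar_apply, ← Matrix.smul_one_eq_diagonal, Matrix.mul_smul, Matrix.mul_one]
  have h1 : ((SpecialLinearGroup.toGL (⟨s⁻¹ • (g.1).map σ, hdetS⟩ : SL(2, F)) : GL (Fin 2) F) :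
      Matrix (Fin 2) (Fin 2) F) = s⁻¹ • (g.1).map σ := rfl
  rw [h1, smul_smul, mul_inv_cancel₀ hs0, one_smul]
  rfl

/-- `PGL₂(K) ≤ PSL₂(F)` inside `PGL₂(E)` -/
theorem ratGroup_le_pslRange (ι : K →+* E) (j : F →+* E) (h : ∀ k, ι k ∈ Set.range j)
    (hsq : ∀ (σ : K →+* F), j.comp σ = ι → ∀ a : K, a ≠ 0 → IsSquare (σ a)) :
    ratGroup ι ≤ (pslHom j).range := by
  obtain ⟨σ, hσ⟩ := exists_factor ι j h
  have hsq' := hsq σ hσ
  subst hσ
  rintro _ ⟨g, rfl⟩
  rw [Matrix.ProjGenLinGroup.map_comp]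
  obtain ⟨y, hy⟩ := pglRange_le_pslRange σ hsq' ⟨g, rfl⟩
  refine ⟨y, ?_⟩
  rw [MonoidHom.comp_apply, ← hy]
  rfl

end sq

variable {F E : Type*} [Field F] [Fintype F] [Field E] [IsAlgClosed E] (j : F →+* E)
  (p : ℕ) [Fact p.Prime] [CharP F p] [CharP E p]
  (M : Subgroup (Matrix.ProjectiveSpecialLinearGroup (Fin 2) F))

omit [Fintype F] [IsAlgClosed E] in
theorem Gam_eq_range : Gam j = (pslHom j).range := by
  unfold Gam img
  rw [← MonoidHom.range_eq_map]

omit [IsAlgClosed E] in
/-- the image of `PSL₂(F)` is normalised by the image of `PGL₂(F)` -/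
theorem conj_mem_Gam (hodd : Odd (Fintype.card F)) {g γ : PGL(Fin 2, E)} (hg : g ∈ Gam j)
    (hγ : γ ∈ ratGroup j) : γ * g * γ⁻¹ ∈ Gam j := by
  have hidx : (ProjectiveSpecialLinearGroup.toPGL (n := Fin 2) (R := F)).range.index = 2 := by
    rw [PGLOrders.index_range_toPGL, gcd_two_of_odd (Nat.odd_iff.mp hodd)]
  have hnorm := Subgroup.normal_of_index_eq_two hidx
  obtain ⟨c, rfl⟩ := hγ
  obtain ⟨h, rfl⟩ := (mem_Gam j g).mp hg
  obtain ⟨y, hy⟩ := hnorm.conj_mem _ ⟨h, rfl⟩ c
  rw [mem_Gam]
  refine ⟨y, ?_⟩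
  show (Matrix.ProjGenLinGroup.map j) (ProjectiveSpecialLinearGroup.toPGL y) = _
  rw [hy, map_mul, map_mul, map_inv]
  rfl

omit [IsAlgClosed E] in
theorem conjSub_le_Gam (hodd : Odd (Fintype.card F)) (B : Subgroup PGL(Fin 2, E)) (hB : B ≤ Gam j)
    {γ : PGL(Fin 2, E)} (hγ : γ ∈ ratGroup j) : conjSub B γ⁻¹ ≤ Gam j := by
  intro g hg
  rw [mem_conjSub_iff, inv_inv] at hg
  have h1 := conj_mem_Gam j hodd (hB hg) ((ratGroup j).inv_mem hγ)
  have h2 : γ⁻¹ * (γ * g * γ⁻¹) * γ⁻¹⁻¹ = g := by group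
  rwa [h2] at h1

theorem two_mul_cube_lt {x y : ℕ} (h1 : 3 ≤ x) (hxy : x * x ≤ y) :
    2 * (x * ((x - 1) * (x + 1))) < y * ((y - 1) * (y + 1)) := by
  have h3 : 3 * x ≤ y := le_trans (Nat.mul_le_mul_right x h1) hxy
  have h4 : (x - 1) * (x + 1) ≤ (y - 1) * (y + 1) := Nat.mul_le_mul (by omega) (by omega)
  have h5 : 0 < (x - 1) * (x + 1) := Nat.mul_pos (by omega) (by omega)
  calc 2 * (x * ((x - 1) * (x + 1))) = (2 * x) * ((x - 1) * (x + 1)) := by ring
    _ < y * ((x - 1) * (x + 1)) := Nat.mul_lt_mul_of_pos_right (by omega) h5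
    _ ≤ y * ((y - 1) * (y + 1)) := Nat.mul_le_mul_left _ h4

/-- the subfield case for odd `q` -/
theorem max_of_wild_odd (hodd : Odd (Fintype.card F))
    (hM : IsCoatom M) (hw : (subMob (img j M) p).WildPSL) :
    (∃ (F₀ : Type) (_ : Field F₀) (_ : Fintype F₀), Fintype.card F = Fintype.card F₀ ^ 2 ∧
        Nonempty (M ≃* Matrix.ProjGenLinGroup (Fin 2) F₀)) ∨
    (∃ (F₀ : Type) (_ : Field F₀) (_ : Fintype F₀) (r : ℕ), r.Prime ∧ Odd r ∧
        Fintype.card F = Fintype.card F₀ ^ r ∧
        Nonempty (M ≃* Matrix.ProjectiveSpecialLinearGroup (Fin 2) F₀)) := by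
  obtain ⟨γ, K, _, _, ι, hγ, hsub, hK3, hstr⟩ := case_wild_strong j p M hw
  obtain ⟨m, hm⟩ := exists_pow_card_eq ι j hsub
  have hm0 : m ≠ 0 := by
    rintro rfl
    rw [pow_zero] at hm
    have := Fintype.card_pos (α := F)
    have h3 : 3 ≤ Fintype.card F := by
      by_contra hlt
      have h1 : Fintype.card F = 1 := by
        rcases Nat.odd_iff.mp hodd with h
        omega
      have := Fintype.one_lt_card (α := F)
      omega
    omega
  have hKodd : Odd (Fintype.card K) := by
    rw [← hm] at hodd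
    exact (Nat.odd_pow_iff hm0).mp hodd
  have hk1 : 1 ≤ (Fintype.card K) := Fintype.card_pos
  have hcardG : 2 * Nat.card (Gam j) = (Fintype.card F) * (((Fintype.card F) - 1) * ((Fintype.card F) + 1)) := by
    rw [card_Gam]
    exact card_psl (Fintype.card F) rfl (Nat.odd_iff.mp hodd)
  -- a general tool: `M` lies in a proper subgroup
  have tool : ∀ B : Subgroup PGL(Fin 2, E), B ≤ Gam j → conjSub (img j M) γ ≤ B →
      Nat.card B < Nat.card (Gam j) → Nat.card M = Nat.card B := by
    intro B hB hMB hlt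
    have hBle : conjSub B γ⁻¹ ≤ Gam j := conjSub_le_Gam j hodd B hB hγ
    set N : Subgroup (Gam j) := (conjSub B γ⁻¹).subgroupOf (Gam j) with hN
    have hcardN : Nat.card N = Nat.card B := by
      rw [hN, Nat.card_congr (Subgroup.subgroupOfEquivOfLe hBle).toEquiv,
        ← Nat.card_congr (conjIso B γ⁻¹).toEquiv]
    have hmem : ∀ m ∈ M, gamIso j m ∈ N := by
      intro m hm
      rw [hN, Subgroup.mem_subgroupOf, gamIso_coe, mem_conjSub_iff, inv_inv]
      apply hMB
      rw [mem_conjSub_iff]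
      have h2 : γ⁻¹ * (γ * (pslHom j) m * γ⁻¹) * γ = pslHom j m := by group
      rw [h2]
      exact (mem_img_iff j M _).mpr ⟨m, hm, rfl⟩
    have hNtop : N ≠ ⊤ := by
      intro htop
      have h1 : Nat.card N = Nat.card (Gam j) := by rw [htop, Subgroup.card_top]
      omega
    obtain ⟨e⟩ := coatom_transfer j M hM N hmem hNtop
    rw [Nat.card_congr e.toEquiv, hcardN]
  have hcardPSL : ∀ (K' : Type) [Field K'] [Fintype K'] (ι' : K' →+* E),
      Odd (Fintype.card K') →
      2 * Nat.card (pslHom ι').range = Fintype.card K' * ((Fintype.card K' - 1) *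
        (Fintype.card K' + 1)) := by
    intro K' _ _ ι' hodd'
    rw [← Nat.card_congr (MonoidHom.ofInjective (pslHom_injective ι')).toEquiv]
    exact card_psl _ rfl (Nat.odd_iff.mp hodd')
  have hcardPGL : ∀ (K' : Type) [Field K'] [Fintype K'] (ι' : K' →+* E),
      Nat.card (ratGroup ι') = Fintype.card K' * ((Fintype.card K' - 1) *
        (Fintype.card K' + 1)) := by
    intro K' _ _ ι'
    rw [ratGroup,
      ← Nat.card_congr (MonoidHom.ofInjective (SubfieldPSL.pglMap_injective ι')).toEquiv]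
    exact card_pgl _ rfl
  have hpsl_le_rat : (pslHom ι).range ≤ ratGroup ι := by
    rintro _ ⟨x, rfl⟩
    exact ⟨ProjectiveSpecialLinearGroup.toPGL x, rfl⟩
  have hkq : m ≠ 1 → (Fintype.card K) * (Fintype.card K) ≤ (Fintype.card F) := by
    intro hm1
    rw [← hm]
    calc (Fintype.card K) * (Fintype.card K) = (Fintype.card K) ^ 2 := (sq (Fintype.card K)).symm
      _ ≤ (Fintype.card K) ^ m := Nat.pow_le_pow_right hk1 (by omega)
  rcases hstr with h | h
  · -- `PSL₂(K)`
    have eM : M ≃* Matrix.ProjectiveSpecialLinearGroup (Fin 2) K :=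
      (((imgIso j M).trans (conjIso (img j M) γ)).trans (MulEquiv.subgroupCongr h)).trans
        (MonoidHom.ofInjective (pslHom_injective ι)).symm
    have hcardM : 2 * Nat.card M = (Fintype.card K) * (((Fintype.card K) - 1) * ((Fintype.card K) + 1)) := by
      rw [Nat.card_congr eM.toEquiv]
      exact card_psl (Fintype.card K) rfl (Nat.odd_iff.mp hKodd)
    by_cases hm1 : m = 1
    · exfalso
      rw [hm1, pow_one] at hm
      apply hM.1
      apply Subgroup.eq_top_of_card_eq
      have : 2 * Nat.card M = 2 * Nat.card (Matrix.ProjectiveSpecialLinearGroup (Fin 2) F) := by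
        rw [hcardM, ← card_Gam j, hcardG, hm]
      omega
    by_cases hmeven : Even m
    · exfalso
      have hB : ratGroup ι ≤ Gam j := by
        rw [Gam_eq_range]
        apply ratGroup_le_pslRange ι j hsub
        intro σ _ a ha
        exact SubfieldPSL.isSquare_of_even σ m hmeven hodd hm a ha
      have hMB : conjSub (img j M) γ ≤ ratGroup ι := by rw [h]; exact hpsl_le_rat
      have hlt : Nat.card (ratGroup ι) < Nat.card (Gam j) := by
        rw [hcardPGL K ι]
        have := two_mul_cube_lt hK3 (hkq hm1)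
        omega
      have := tool _ hB hMB hlt
      rw [hcardPGL K ι] at this
      have hpos : 0 < (Fintype.card K) * (((Fintype.card K) - 1) * ((Fintype.card K) + 1)) :=
        Nat.mul_pos (by omega) (Nat.mul_pos (by omega) (by omega))
      omega
    by_cases hmp : m.Prime
    · right
      exact ⟨K, inferInstance, inferInstance, m, hmp, Nat.not_even_iff_odd.mp hmeven, hm.symm,
        ⟨eM⟩⟩
    exfalso
    have hm2 : 2 ≤ m := by omega
    obtain ⟨a, b, ha, hb, hab⟩ := (Nat.not_prime_iff_exists_mul_eq hm2).mp hmp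
    have ha2 : 2 ≤ a := by
      by_contra hlt
      have : a ≤ 1 := by omega
      have h1 : a * b ≤ 1 * b := Nat.mul_le_mul_right _ this
      omega
    have hb2 : 2 ≤ b := by
      by_contra hlt
      have : b ≤ 1 := by omega
      have h1 : a * b ≤ a * 1 := Nat.mul_le_mul_left _ this
      omega
    obtain ⟨K', _, _, ι', hcard', hι1, hι2⟩ := exists_mid_field ι j a b (by omega) (by omega)
      (by rw [hab]; exact hm)
    have hlt1 : (Fintype.card K) < Fintype.card K' := by
      rw [hcard']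
      calc (Fintype.card K) = (Fintype.card K) ^ 1 := (pow_one _).symm
        _ < (Fintype.card K) ^ a := Nat.pow_lt_pow_right (by omega) (by omega)
    have hlt2 : Fintype.card K' < (Fintype.card F) := by
      rw [hcard', ← hm, ← hab, pow_mul]
      calc (Fintype.card K) ^ a = ((Fintype.card K) ^ a) ^ 1 := (pow_one _).symm
        _ < ((Fintype.card K) ^ a) ^ b := Nat.pow_lt_pow_right (by
            calc 1 < (Fintype.card K) := by omega
              _ ≤ (Fintype.card K) ^ a := Nat.le_self_pow (by omega) _) (by omega)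
    have hK'odd : Odd (Fintype.card K') := by
      rw [hcard']
      exact hKodd.pow
    have hB : (pslHom ι').range ≤ Gam j := by
      rw [Gam_eq_range]
      exact pslRange_mono ι' j hι2
    have hMB : conjSub (img j M) γ ≤ (pslHom ι').range := by
      rw [h]
      exact pslRange_mono ι ι' hι1
    have hc' := hcardPSL K' ι' hK'odd
    have hlt : Nat.card (pslHom ι').range < Nat.card (Gam j) := by
      have := cube_lt (Fintype.card_pos : 1 ≤ Fintype.card K') hlt2
      omega
    have := tool _ hB hMB hlt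
    have h3 := cube_lt hk1 hlt1
    omega
  · -- `PGL₂(K)`
    have hstr' : conjSub (img j M) γ = ratGroup ι := h
    have eM : M ≃* Matrix.ProjGenLinGroup (Fin 2) K :=
      (((imgIso j M).trans (conjIso (img j M) γ)).trans (MulEquiv.subgroupCongr hstr')).trans
        (MonoidHom.ofInjective (SubfieldPSL.pglMap_injective ι)).symm
    have hcardM : Nat.card M = (Fintype.card K) * (((Fintype.card K) - 1) * ((Fintype.card K) + 1)) := by
      rw [Nat.card_congr eM.toEquiv]; exact card_pgl _ rfl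
    by_cases hmodd : Odd m
    · exfalso
      have hdvd : Nat.card M ∣ Nat.card (Matrix.ProjectiveSpecialLinearGroup (Fin 2) F) :=
        Subgroup.card_subgroup_dvd_card M
      rw [hcardM, ← card_Gam j] at hdvd
      apply SubfieldPSL.not_dvd_of_odd (Fintype.card K) m (Nat.card (Gam j)) hKodd hK3 hmodd
      · rw [hcardG, hm, sq_sub_one (Fintype.card F) Fintype.card_pos]
      · rw [sq_sub_one (Fintype.card K) hk1]
        exact hdvd
    have hmeven : Even m := Nat.not_odd_iff_even.mp hmodd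
    by_cases hm2 : m = 2
    · left
      exact ⟨K, inferInstance, inferInstance, by rw [← hm, hm2], ⟨eM⟩⟩
    exfalso
    obtain ⟨c, hc⟩ := hmeven
    have hc2 : 2 ≤ c := by omega
    obtain ⟨K', _, _, ι', hcard', hι1, hι2⟩ := exists_mid_field ι j 2 c (by omega) (by omega)
      (by rw [show 2 * c = m by omega]; exact hm)
    have hK'odd : Odd (Fintype.card K') := by
      rw [hcard']
      exact hKodd.pow
    have hlt2 : Fintype.card K' < (Fintype.card F) := by
      rw [hcard', ← hm, show m = 2 * c by omega, pow_mul]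
      calc (Fintype.card K) ^ 2 = ((Fintype.card K) ^ 2) ^ 1 := (pow_one _).symm
        _ < ((Fintype.card K) ^ 2) ^ c := Nat.pow_lt_pow_right (by
            calc 1 < (Fintype.card K) := by omega
              _ ≤ (Fintype.card K) ^ 2 := Nat.le_self_pow (by omega) _) (by omega)
    have hB : (pslHom ι').range ≤ Gam j := by
      rw [Gam_eq_range]
      exact pslRange_mono ι' j hι2
    have hMB : conjSub (img j M) γ ≤ (pslHom ι').range := by
      rw [hstr']
      apply ratGroup_le_pslRange ι ι' hι1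
      intro σ _ a ha
      exact SubfieldPSL.isSquare_of_even σ 2 even_two hK'odd hcard'.symm a ha
    have hc' := hcardPSL K' ι' hK'odd
    have hlt : Nat.card (pslHom ι').range < Nat.card (Gam j) := by
      have := cube_lt (Fintype.card_pos : 1 ≤ Fintype.card K') hlt2
      omega
    have := tool _ hB hMB hlt
    rw [hcardM] at this
    rw [← this, hcard'] at hc'
    -- `2 (Fintype.card K) ((Fintype.card K)-1)((Fintype.card K)+1) = k² (k² - 1)(k² + 1)` is impossible
    have h4 : (Fintype.card K) ^ 2 - 1 = ((Fintype.card K) - 1) * ((Fintype.card K) + 1) := sq_sub_one (Fintype.card K) hk1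
    rw [h4] at hc'
    have h5 : 0 < (Fintype.card K) * (((Fintype.card K) - 1) * ((Fintype.card K) + 1)) :=
      Nat.mul_pos (by omega) (Nat.mul_pos (by omega) (by omega))
    have h6 : (Fintype.card K) ^ 2 * (((Fintype.card K) - 1) * ((Fintype.card K) + 1) * ((Fintype.card K) ^ 2 + 1)) =
        ((Fintype.card K) * (((Fintype.card K) - 1) * ((Fintype.card K) + 1))) * ((Fintype.card K) * ((Fintype.card K) ^ 2 + 1)) := by ring
    rw [h6] at hc'
    have h7 : (Fintype.card K) * ((Fintype.card K) ^ 2 + 1) = 2 := by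
      apply Nat.eq_of_mul_eq_mul_left h5
      rw [← hc']
      ring
    have h8 : 3 * 1 ≤ (Fintype.card K) * ((Fintype.card K) ^ 2 + 1) := Nat.mul_le_mul hK3 (by omega)
    omega

end Cfsg.Agent.Lib.Helper5.PSL2Tori
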