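import Mathlib
import Cfsg.Agent.Lib.Helper5.PSL2MaxOdd.TameFrob
import Cfsg.Agent.Lib.Helper5.PSL2MaxOdd.WildOdd

set_option autoImplicit false

/-! The polyhedral maximal subgroups of `PSL₂(F)`, `F` of odd order: arithmetic conditions. -/

namespace Cfsg.Agent.Lib.Helper5.PSL2MaxOdd

open Matrix Cfsg.Agent.Lib.Helper5.SL2Cyclic Cfsg.Agent.Lib.Helper5.SL2Quat
  Cfsg.Agent.Lib.Helper5.SL2Four Cfsg.Agent.Lib.Helper5.PSL2Pairs
  Cfsg.Agent.Lib.Helper5.PSL2KleinClasses Cfsg.Agent.Lib.Helper5.PairOrbits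
  Cfsg.Agent.Lib.Helper5.SumTwoSq Cfsg.Agent.Lib.Helper5.DicksonOrders
  Cfsg.Agent.Lib.Helper5.DicksonMax
open scoped MatrixGroups

section generic

variable {G H : Type*} [Group G] [Group H]

theorem coe_symm_eq_one_iff (M : Subgroup G) (e : M ≃* H) (a : H) :
    ((e.symm a : M) : G) = 1 ↔ a = 1 := by
  constructor
  · intro h
    have h1 : e.symm a = 1 := Subtype.ext h
    rw [← e.apply_symm_apply a, h1, map_one]
  · rintro rfl
    rw [map_one]; rfl

theorem coe_symm_mul (M : Subgroup G) (e : M ≃* H) (a b : H) :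
    ((e.symm a : M) : G) * ((e.symm b : M) : G) = ((e.symm (a * b) : M) : G) := by
  rw [map_mul]; rfl

theorem coe_symm_inj (M : Subgroup G) (e : M ≃* H) (a b : H)
    (h : ((e.symm a : M) : G) = ((e.symm b : M) : G)) : a = b :=
  e.symm.injective (Subtype.ext h)

/-- a pair of commuting involutions transported along an isomorphism -/
theorem pair_of_iso (M : Subgroup G) (e : M ≃* H) (a b : H)
    (ha1 : a ≠ 1) (ha2 : a * a = 1) (hb1 : b ≠ 1) (hb2 : b * b = 1) (hba : b ≠ a)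
    (hc : b * a = a * b) :
    (((e.symm a : M) : G), ((e.symm b : M) : G)) ∈ PairSet G := by
  refine ⟨⟨?_, ?_⟩, ?_, ?_, ?_, ?_⟩
  · exact fun h => ha1 ((coe_symm_eq_one_iff M e a).mp h)
  · show ((e.symm a : M) : G) * ((e.symm a : M) : G) = 1
    rw [coe_symm_mul, ha2]; exact (coe_symm_eq_one_iff M e 1).mpr rfl
  · exact fun h => hb1 ((coe_symm_eq_one_iff M e b).mp h)
  · show ((e.symm b : M) : G) * ((e.symm b : M) : G) = 1
    rw [coe_symm_mul, hb2]; exact (coe_symm_eq_one_iff M e 1).mpr rfl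
  · exact fun h => hba (coe_symm_inj M e b a h)
  · show ((e.symm b : M) : G) * ((e.symm a : M) : G) = ((e.symm a : M) : G) * ((e.symm b : M) : G)
    rw [coe_symm_mul, coe_symm_mul, hc]

theorem normal_of_iso (M : Subgroup G) (e : M ≃* H) (a b : H)
    (hx : (((e.symm a : M) : G), ((e.symm b : M) : G)) ∈ PairSet G) (c : H)
    (hn : ∀ g : H, g * c * g⁻¹ = 1 ∨ g * c * g⁻¹ = a ∨ g * c * g⁻¹ = b ∨ g * c * g⁻¹ = a * b)
    (m : G) (hm : m ∈ M) :
    m * ((e.symm c : M) : G) * m⁻¹ ∈ kvP (((e.symm a : M) : G), ((e.symm b : M) : G)) hx := by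
  have h1 : m * ((e.symm c : M) : G) * m⁻¹ =
      ((e.symm (e ⟨m, hm⟩ * c * (e ⟨m, hm⟩)⁻¹) : M) : G) := by
    rw [map_mul, map_mul, map_inv, e.symm_apply_apply]; rfl
  rw [h1, mem_kvP]
  rcases hn (e ⟨m, hm⟩) with h | h | h | h
  · left; rw [h]; exact (coe_symm_eq_one_iff M e 1).mpr rfl
  · right; left; rw [h]
  · right; right; left; rw [h]
  · right; right; right; rw [h, coe_symm_mul]

end generic

/-! ### The concrete four-groups -/

/-- first involution of the normal four-group of `S₄` -/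
def a4 : Equiv.Perm (Fin 4) := Equiv.swap 0 1 * Equiv.swap 2 3
/-- second involution of the normal four-group of `S₄` -/
def b4 : Equiv.Perm (Fin 4) := Equiv.swap 0 2 * Equiv.swap 1 3

theorem a4_facts : a4 ≠ 1 ∧ a4 * a4 = 1 ∧ b4 ≠ 1 ∧ b4 * b4 = 1 ∧ b4 ≠ a4 ∧ b4 * a4 = a4 * b4 ∧
    Equiv.Perm.sign a4 = 1 ∧ Equiv.Perm.sign b4 = 1 := by
  decide

set_option maxRecDepth 100000 in
theorem a4_normal : ∀ g : Equiv.Perm (Fin 4),
    (g * a4 * g⁻¹ = 1 ∨ g * a4 * g⁻¹ = a4 ∨ g * a4 * g⁻¹ = b4 ∨ g * a4 * g⁻¹ = a4 * b4) ∧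
    (g * b4 * g⁻¹ = 1 ∨ g * b4 * g⁻¹ = a4 ∨ g * b4 * g⁻¹ = b4 ∨ g * b4 * g⁻¹ = a4 * b4) := by
  decide

/-- first involution of a four-group of `A₅` -/
def a5 : Equiv.Perm (Fin 5) := Equiv.swap 0 1 * Equiv.swap 2 3
/-- second involution of a four-group of `A₅` -/
def b5 : Equiv.Perm (Fin 5) := Equiv.swap 0 2 * Equiv.swap 1 3

theorem a5_facts : a5 ≠ 1 ∧ a5 * a5 = 1 ∧ b5 ≠ 1 ∧ b5 * b5 = 1 ∧ b5 ≠ a5 ∧ b5 * a5 = a5 * b5 ∧
    Equiv.Perm.sign a5 = 1 ∧ Equiv.Perm.sign b5 = 1 := by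
  decide

variable {F : Type*} [Field F] [Fintype F]

local notation "SL2" => Matrix.SpecialLinearGroup (Fin 2) F
local notation "PSL2" => Matrix.ProjectiveSpecialLinearGroup (Fin 2) F
local notation "M2" => Matrix (Fin 2) (Fin 2) F

theorem card_eq_of_le (p : ℕ) [Fact p.Prime] [CharP F p] (h : Fintype.card F ≤ p) :
    Fintype.card F = p := by
  obtain ⟨n, -, hn⟩ := FiniteField.card F p
  have h1 : p ^ 1 ≤ p ^ (n : ℕ) := Nat.pow_le_pow_right (Fact.out : p.Prime).pos n.pos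
  rw [pow_one, ← hn] at h1
  omega

theorem card_cases_of_le_sq (p : ℕ) [Fact p.Prime] [CharP F p] (h : Fintype.card F ≤ p ^ 2) :
    Fintype.card F = p ∨ Fintype.card F = p ^ 2 := by
  obtain ⟨n, -, hn⟩ := FiniteField.card F p
  rw [hn] at h ⊢
  have h1 : (n : ℕ) ≤ 2 := (Nat.pow_le_pow_iff_right (Fact.out : p.Prime).one_lt).mp h
  have h2 : 0 < (n : ℕ) := n.pos
  have h3 : (n : ℕ) = 1 ∨ (n : ℕ) = 2 := by omega
  rcases h3 with h3 | h3
  · left; rw [h3, pow_one]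
  · right; rw [h3]

/-- a maximal subgroup isomorphic to `S₄` of order prime to `p` forces `q = p` -/
theorem card_eq_p_of_S4 (p : ℕ) [Fact p.Prime] [CharP F p] (hodd : Fintype.card F % 2 = 1)
    (M : Subgroup PSL2) (hM : IsCoatom M) (e : M ≃* Equiv.Perm (Fin 4)) (hp : ¬ p ∣ 24) :
    Fintype.card F = p := by
  classical
  obtain ⟨f1, f2, f3, f4, f5, f6, -, -⟩ := a4_facts
  have hx := pair_of_iso M e a4 b4 f1 f2 f3 f4 f5 f6
  have hcard : Nat.card M = 24 := by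
    rw [Nat.card_congr e.toEquiv, Nat.card_eq_fintype_card, Fintype.card_perm, Fintype.card_fin]
    rfl
  apply card_eq_of_le p
  apply card_le_of_normal p hodd M hM _ hx
  · intro m hm
    exact ⟨normal_of_iso M e a4 b4 hx a4 (fun g => (a4_normal g).1) m hm,
      normal_of_iso M e a4 b4 hx b4 (fun g => (a4_normal g).2) m hm⟩
  · rw [hcard]; exact hp

/-- a maximal subgroup isomorphic to `A₄` of order prime to `p` forces `q = p` -/
theorem card_eq_p_of_A4 (p : ℕ) [Fact p.Prime] [CharP F p] (hodd : Fintype.card F % 2 = 1)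
    (M : Subgroup PSL2) (hM : IsCoatom M) (e : M ≃* alternatingGroup (Fin 4)) (hp : ¬ p ∣ 12) :
    Fintype.card F = p := by
  classical
  obtain ⟨f1, f2, f3, f4, f5, f6, f7, f8⟩ := a4_facts
  have ha : a4 ∈ alternatingGroup (Fin 4) := Equiv.Perm.mem_alternatingGroup.mpr f7
  have hb : b4 ∈ alternatingGroup (Fin 4) := Equiv.Perm.mem_alternatingGroup.mpr f8
  have hx := pair_of_iso M e (⟨a4, ha⟩ : alternatingGroup (Fin 4)) ⟨b4, hb⟩
    (fun h => f1 (congrArg Subtype.val h)) (Subtype.ext f2)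
    (fun h => f3 (congrArg Subtype.val h)) (Subtype.ext f4)
    (fun h => f5 (congrArg Subtype.val h)) (Subtype.ext f6)
  have hcard : Nat.card M = 12 := by
    rw [Nat.card_congr e.toEquiv]
    have h1 := (alternatingGroup (Fin 4)).card_mul_index
    rw [alternatingGroup.index_eq_two, Nat.card_eq_fintype_card (α := Equiv.Perm (Fin 4)),
      Fintype.card_perm, Fintype.card_fin] at h1
    have : (4 : ℕ).factorial = 24 := rfl
    omega
  have hn : ∀ c : Equiv.Perm (Fin 4), ∀ hc : c ∈ alternatingGroup (Fin 4),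
      (∀ g : Equiv.Perm (Fin 4), g * c * g⁻¹ = 1 ∨ g * c * g⁻¹ = a4 ∨ g * c * g⁻¹ = b4 ∨
        g * c * g⁻¹ = a4 * b4) →
      ∀ g : alternatingGroup (Fin 4), g * ⟨c, hc⟩ * g⁻¹ = 1 ∨ g * ⟨c, hc⟩ * g⁻¹ = ⟨a4, ha⟩ ∨
        g * ⟨c, hc⟩ * g⁻¹ = ⟨b4, hb⟩ ∨ g * ⟨c, hc⟩ * g⁻¹ = ⟨a4, ha⟩ * ⟨b4, hb⟩ := by
    intro c hc h g
    rcases h g.1 with h | h | h | h
    · left; exact Subtype.ext h
    · right; left; exact Subtype.ext h
    · right; right; left; exact Subtype.ext h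
    · right; right; right; exact Subtype.ext h
  apply card_eq_of_le p
  apply card_le_of_normal p hodd M hM _ hx
  · intro m hm
    exact ⟨normal_of_iso M e _ _ hx ⟨a4, ha⟩ (hn a4 ha (fun g => (a4_normal g).1)) m hm,
      normal_of_iso M e _ _ hx ⟨b4, hb⟩ (hn b4 hb (fun g => (a4_normal g).2)) m hm⟩
  · rw [hcard]; exact hp

end Cfsg.Agent.Lib.Helper5.PSL2MaxOdd
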