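import Mathlib
import Cfsg.Agent.Lib.Helper5.PSL2MaxOdd.TameCases
import Cfsg.Agent.Lib.Helper5.DicksonMax5

set_option autoImplicit false

/-! The icosahedral maximal subgroups of `PSL₂(F)`, `F` of odd order. -/

namespace Cfsg.Agent.Lib.Helper5.PSL2MaxOdd

open Matrix Cfsg.Agent.Lib.Helper5.SL2Cyclic Cfsg.Agent.Lib.Helper5.SL2Quat
  Cfsg.Agent.Lib.Helper5.SL2Four Cfsg.Agent.Lib.Helper5.PSL2Pairs
  Cfsg.Agent.Lib.Helper5.PSL2KleinClasses Cfsg.Agent.Lib.Helper5.PairOrbits
  Cfsg.Agent.Lib.Helper5.SumTwoSq Cfsg.Agent.Lib.Helper5.DicksonOrders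
  Cfsg.Agent.Lib.Helper5.DicksonMax
open scoped MatrixGroups

variable {F : Type*} [Field F]

local notation "SL2" => Matrix.SpecialLinearGroup (Fin 2) F
local notation "PSL2" => Matrix.ProjectiveSpecialLinearGroup (Fin 2) F
local notation "M2" => Matrix (Fin 2) (Fin 2) F

/-- a diagonal matrix -/
noncomputable def dg (t : F) (ht : t ≠ 0) : SL2 :=
  ⟨!![t, 0; 0, t⁻¹], by rw [det_fin_two]; simp [ht]⟩

theorem dg_val (t : F) (ht : t ≠ 0) : (dg t ht).1 = !![t, 0; 0, t⁻¹] := rfl

theorem dg_mul (s t : F) (hs : s ≠ 0) (ht : t ≠ 0) :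
    dg s hs * dg t ht = dg (s * t) (mul_ne_zero hs ht) := by
  apply Subtype.ext
  show (dg s hs).1 * (dg t ht).1 = _
  rw [dg_val, dg_val, dg_val]
  ext i j
  fin_cases i <;> fin_cases j <;> simp [mul_comm]

theorem TT_dg (τ : F →+* F) (t : F) (ht : t ≠ 0) (h : τ t = t) : TT τ (dg t ht) = dg t ht := by
  apply Subtype.ext
  rw [TT_val, dg_val]
  ext i j
  fin_cases i <;> fin_cases j <;> simp [h]

theorem mk_dg_eq_one (h2 : (2 : F) ≠ 0) (t : F) (ht : t ≠ 0)
    (h : (QuotientGroup.mk (dg t ht) : PSL2) = 1) : t = 1 ∨ t = -1 := by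
  have h1 : (QuotientGroup.mk (1 : SL2) : PSL2) = QuotientGroup.mk (dg t ht) := h.symm
  rcases (mk_eq_mk_iff h2 _ _).mp h1 with h3 | h3
  · left
    have := congrFun (congrFun (congrArg Subtype.val h3) 0) 0
    rw [dg_val] at this
    simpa using this
  · right
    rw [one_mul] at h3
    have := congrFun (congrFun (congrArg Subtype.val h3) 0) 0
    rw [dg_val] at this
    have h4 : (negOne F).1 0 0 = -1 := by
      show (-1 : M2) 0 0 = -1
      simp
    rw [h4] at this
    simpa using this

/-- a diagonal element of order four -/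
theorem orderOf_mk_dg (h2 : (2 : F) ≠ 0) (t : F) (ht : t ≠ 0) (h4 : t ^ 4 = -1) :
    orderOf (QuotientGroup.mk (dg t ht) : PSL2) = 4 := by
  have : Fact (Nat.Prime 2) := ⟨Nat.prime_two⟩
  have key : orderOf (QuotientGroup.mk (dg t ht) : PSL2) = 2 ^ (1 + 1) := by
    apply orderOf_eq_prime_pow
    · intro h
      rw [pow_one, pow_two, ← QuotientGroup.mk_mul, dg_mul] at h
      have h5 : (t * t) ^ 2 = 1 := by
        rcases mk_dg_eq_one h2 _ _ h with h | h <;> rw [h] <;> ring
      apply h2
      have : t ^ 4 = 1 := by rw [← h5]; ring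
      rw [h4] at this
      linear_combination -this
    · have e : (2 : ℕ) ^ (1 + 1) = 2 * 2 := rfl
      rw [e, pow_mul, pow_two, pow_two, ← QuotientGroup.mk_mul, ← QuotientGroup.mk_mul, dg_mul,
        dg_mul]
      have : dg (t * t * (t * t)) (mul_ne_zero (mul_ne_zero ht ht) (mul_ne_zero ht ht)) =
          negOne F := by
        apply Subtype.ext
        rw [dg_val]
        show _ = (-1 : M2)
        have e1 : t * t * (t * t) = -1 := by rw [← h4]; ring
        rw [e1]
        ext i j
        fin_cases i <;> fin_cases j <;> simp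
      rw [this]
      exact mk_negOne h2
  rw [key]; rfl

variable [Fintype F]

omit [Fintype F] in
theorem A5_orders (M : Subgroup PSL2) (e : M ≃* alternatingGroup (Fin 5)) (m : PSL2)
    (hm : m ∈ M) : m ^ 2 = 1 ∨ m ^ 3 = 1 ∨ m ^ 5 = 1 := by
  have hs : Equiv.Perm.sign ((e ⟨m, hm⟩ : alternatingGroup (Fin 5)) : Equiv.Perm (Fin 5)) = 1 :=
    Equiv.Perm.mem_alternatingGroup.mp (e ⟨m, hm⟩).2
  have key : ∀ k : ℕ, ((e ⟨m, hm⟩ : alternatingGroup (Fin 5)) : Equiv.Perm (Fin 5)) ^ k = 1 →
      m ^ k = 1 := by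
    intro k hk
    have h1 : (e ⟨m, hm⟩) ^ k = 1 := Subtype.ext (by rw [Subgroup.coe_pow]; exact hk)
    have h2 : (⟨m, hm⟩ : M) ^ k = 1 := by
      apply e.injective
      rw [map_pow, h1, map_one]
    have := congrArg Subtype.val h2
    rwa [Subgroup.coe_pow] at this
  rcases A5_pow _ hs with h | h | h
  · left; exact key 2 h
  · right; left; exact key 3 h
  · right; right; exact key 5 h

theorem card_A5 : Nat.card (alternatingGroup (Fin 5)) = 60 := by
  have h1 := (alternatingGroup (Fin 5)).card_mul_index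
  rw [alternatingGroup.index_eq_two, Nat.card_eq_fintype_card (α := Equiv.Perm (Fin 5)),
    Fintype.card_perm, Fintype.card_fin] at h1
  have : (5 : ℕ).factorial = 120 := rfl
  omega

omit [Fintype F] in
theorem iterateFrobenius_two_quad (p : ℕ) [Fact p.Prime] [CharP F p] (t ε : F)
    (hε : ε = 1 ∨ ε = -1) (h : t ^ 2 = ε * t + 1) : iterateFrobenius F p 2 t = t := by
  have h1 : iterateFrobenius F p 2 t = frobenius F p (frobenius F p t) := by
    rw [iterateFrobenius_def, frobenius_def, frobenius_def, pow_two, pow_mul]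
  rw [h1]
  apply quad_fixed (frobenius F p) t ε _ h
  rcases hε with rfl | rfl <;> simp

/-- the field has at most `p²` elements -/
theorem card_le_sq_of_A5 (p : ℕ) [Fact p.Prime] [CharP F p] (hodd : Fintype.card F % 2 = 1)
    (M : Subgroup PSL2) (hM : IsCoatom M) (e : M ≃* alternatingGroup (Fin 5)) (hp5 : p ≠ 5) :
    Fintype.card F ≤ p ^ 2 := by
  classical
  have h2 : (2 : F) ≠ 0 := two_ne_zero_of_odd hodd
  have hpp : p.Prime := Fact.out
  obtain ⟨f1, f2, f3, f4, f5, f6, f7, f8⟩ := a5_facts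
  have ha : a5 ∈ alternatingGroup (Fin 5) := Equiv.Perm.mem_alternatingGroup.mpr f7
  have hb : b5 ∈ alternatingGroup (Fin 5) := Equiv.Perm.mem_alternatingGroup.mpr f8
  have hx := pair_of_iso M e (⟨a5, ha⟩ : alternatingGroup (Fin 5)) ⟨b5, hb⟩
    (fun h => f1 (congrArg Subtype.val h)) (Subtype.ext f2)
    (fun h => f3 (congrArg Subtype.val h)) (Subtype.ext f4)
    (fun h => f5 (congrArg Subtype.val h)) (Subtype.ext f6)
  have hcard : Nat.card M = 60 := by rw [Nat.card_congr e.toEquiv, card_A5]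
  have hord := A5_orders M e
  have hp2 : p ≠ 2 := by
    rintro rfl
    apply h2
    exact_mod_cast CharP.cast_eq_zero F 2
  apply card_le_of_forall_pow_eq (p ^ 2) (Nat.one_lt_pow (by norm_num) hpp.one_lt)
  intro a
  rw [← iterateFrobenius_def]
  by_cases hp3 : p = 3
  · -- the wild case: an element of order four
    subst hp3
    have : Fact (Nat.Prime 5) := ⟨by norm_num⟩
    obtain ⟨g, hg⟩ := exists_prime_orderOf_dvd_card' (G := M) 5 (by rw [hcard]; norm_num)
    obtain ⟨Y5, hY5⟩ := QuotientGroup.mk_surjective (g : PSL2)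
    have hg5 : (QuotientGroup.mk Y5 : PSL2) ^ 5 = 1 := by
      rw [hY5, ← Subgroup.coe_pow, ← hg, pow_orderOf_eq_one]; rfl
    have hgne : (g : PSL2) ≠ 1 := by
      intro h
      have : g = 1 := Subtype.ext h
      rw [this, orderOf_one] at hg
      omega
    have h3 : (3 : F) = 0 := by exact_mod_cast CharP.cast_eq_zero F 3
    have ht4 : Y5.1.trace ^ 4 - 3 * Y5.1.trace ^ 2 + 1 = 0 := by
      rcases trace_of_pow_five h2 Y5 hg5 with h | h | h
      · exact h
      · exfalso; apply hgne; rw [← hY5, h]; rfl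
      · exfalso; apply hgne; rw [← hY5, h]; exact mk_negOne h2
    have ht4' : Y5.1.trace ^ 4 = -1 := by linear_combination ht4 + Y5.1.trace ^ 2 * h3
    have ht0 : Y5.1.trace ≠ 0 := by
      intro h
      rw [h] at ht4'
      have : (1 : F) = 0 := by linear_combination ht4'
      exact one_ne_zero this
    have htfix : iterateFrobenius F 3 2 Y5.1.trace = Y5.1.trace := by
      have hf : (Y5.1.trace ^ 2 - Y5.1.trace - 1) * (Y5.1.trace ^ 2 + Y5.1.trace - 1) = 0 := by
        linear_combination ht4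
      rcases mul_eq_zero.mp hf with h | h
      · exact iterateFrobenius_two_quad 3 _ 1 (Or.inl rfl) (by linear_combination h)
      · exact iterateFrobenius_two_quad 3 _ (-1) (Or.inr rfl) (by linear_combination h)
    refine tau_trivial_of_orders 3 hodd M hM _ hx (e.symm _).2 (e.symm _).2 hord
      (iterateFrobenius F 3 2) (iterateFrobenius_fixed 3 2)
      (iterateFrobenius_two_quad 3) (dg _ ht0) (TT_dg _ _ ht0 htfix) ?_ a
    intro m hm
    rw [orderOf_mk_dg h2 _ ht0 ht4']
    intro h4
    rcases hord m hm with h | h | h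
    · have := orderOf_dvd_of_pow_eq_one h; rw [h4] at this; omega
    · have := orderOf_dvd_of_pow_eq_one h; rw [h4] at this; omega
    · have := orderOf_dvd_of_pow_eq_one h; rw [h4] at this; omega
  · -- the tame case: a unipotent element
    have hp60 : ¬ p ∣ 60 := by
      intro h
      have h60 : (60 : ℕ) = 2 * 2 * 3 * 5 := by norm_num
      rw [h60] at h
      rcases (Nat.Prime.dvd_mul hpp).mp h with h | h
      · rcases (Nat.Prime.dvd_mul hpp).mp h with h | h
        · rcases (Nat.Prime.dvd_mul hpp).mp h with h | h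
          · exact hp2 ((Nat.prime_dvd_prime_iff_eq hpp Nat.prime_two).mp h)
          · exact hp2 ((Nat.prime_dvd_prime_iff_eq hpp Nat.prime_two).mp h)
        · exact hp3 ((Nat.prime_dvd_prime_iff_eq hpp Nat.prime_three).mp h)
      · exact hp5 ((Nat.prime_dvd_prime_iff_eq hpp Nat.prime_five).mp h)
    refine tau_trivial_of_orders p hodd M hM _ hx (e.symm _).2 (e.symm _).2 hord
      (iterateFrobenius F p 2) (iterateFrobenius_fixed p 2)
      (iterateFrobenius_two_quad p) (uu 1) (by rw [TT_uu, map_one]) ?_ a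
    rw [orderOf_mk_uu p h2]
    exact orderOf_ne_of_not_dvd M p (by rw [hcard]; exact hp60)

omit [Fintype F] in
theorem exists_sqrt_five (p : ℕ) [Fact p.Prime] [CharP F p] (hp2 : p ≠ 2)
    (hp : p % 10 = 1 ∨ p % 10 = 9) : ∃ s : F, s * s = 5 ∧ s ^ p = s := by
  have : Fact (Nat.Prime 5) := ⟨by norm_num⟩
  have h1 : IsSquare ((p : ℕ) : ZMod 5) := by
    rw [← ZMod.natCast_mod p 5]
    have h5 : p % 5 = 1 ∨ p % 5 = 4 := by omega
    rcases h5 with h5 | h5 <;> rw [h5]
    · exact ⟨1, by rw [Nat.cast_one, mul_one]⟩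
    · exact ⟨2, by push_cast; norm_num⟩
  have h2 := (ZMod.exists_sq_eq_prime_iff_of_mod_four_eq_one (p := 5) (q := p) (by norm_num)
    hp2).mp h1
  obtain ⟨s₀, hs₀⟩ := h2
  refine ⟨ZMod.castHom (dvd_refl p) F s₀, ?_, ?_⟩
  · rw [← map_mul, ← hs₀, map_natCast]; norm_num
  · rw [← map_pow, ZMod.pow_card]

/-- arithmetic conditions for an icosahedral maximal subgroup -/
theorem A5_facts (p : ℕ) [Fact p.Prime] [CharP F p] (hodd : Fintype.card F % 2 = 1)
    (M : Subgroup PSL2) (hM : IsCoatom M) (e : M ≃* alternatingGroup (Fin 5)) (hp5 : p ≠ 5) :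
    (Fintype.card F % 10 = 1 ∨ Fintype.card F % 10 = 9) ∧
      (Fintype.card F = p ∨ (Fintype.card F = p ^ 2 ∧ (p % 10 = 3 ∨ p % 10 = 7))) := by
  classical
  have h2 : (2 : F) ≠ 0 := two_ne_zero_of_odd hodd
  have hpp : p.Prime := Fact.out
  have hcard : Nat.card M = 60 := by rw [Nat.card_congr e.toEquiv, card_A5]
  have hp2 : p ≠ 2 := by
    rintro rfl
    apply h2
    exact_mod_cast CharP.cast_eq_zero F 2
  obtain ⟨n, -, hn⟩ := FiniteField.card F p
  have hq1 : 1 ≤ Fintype.card F := Fintype.card_pos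
  constructor
  · have h5q : ¬ 5 ∣ Fintype.card F := by
      intro h
      rw [hn] at h
      have := Nat.Prime.dvd_of_dvd_pow Nat.prime_five h
      exact hp5 ((Nat.prime_dvd_prime_iff_eq Nat.prime_five hpp).mp this).symm
    have hG := card_PSL2_mul (F := F)
    have hdvd : 60 ∣ Nat.card PSL2 := hcard ▸ Subgroup.card_subgroup_dvd_card M
    have h5 : 5 ∣ Fintype.card F * ((Fintype.card F - 1) * (Fintype.card F + 1)) := by
      rw [← hG]
      exact Dvd.dvd.mul_left (Dvd.dvd.trans (by norm_num) hdvd) _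
    rcases (Nat.Prime.dvd_mul Nat.prime_five).mp h5 with h | h
    · exact absurd h h5q
    · rcases (Nat.Prime.dvd_mul Nat.prime_five).mp h with h | h <;> omega
  · rcases card_cases_of_le_sq p (card_le_sq_of_A5 p hodd M hM e hp5) with h | h
    · left; exact h
    · right
      refine ⟨h, ?_⟩
      by_contra hcon
      have hodd_p : p % 2 = 1 := by
        rcases Nat.Prime.eq_two_or_odd hpp with h' | h'
        · exact absurd h' hp2
        · exact h'
      have h5p : ¬ 5 ∣ p := fun h' =>
        hp5 ((Nat.prime_dvd_prime_iff_eq Nat.prime_five hpp).mp h').symm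
      have hp19 : p % 10 = 1 ∨ p % 10 = 9 := by omega
      obtain ⟨s, hs, hsp⟩ := exists_sqrt_five (F := F) p hp2 hp19
      -- now everything is defined over the prime field
      obtain ⟨f1, f2, f3, f4, f5, f6, f7, f8⟩ := a5_facts
      have ha : a5 ∈ alternatingGroup (Fin 5) := Equiv.Perm.mem_alternatingGroup.mpr f7
      have hb : b5 ∈ alternatingGroup (Fin 5) := Equiv.Perm.mem_alternatingGroup.mpr f8
      have hx := pair_of_iso M e (⟨a5, ha⟩ : alternatingGroup (Fin 5)) ⟨b5, hb⟩
        (fun h => f1 (congrArg Subtype.val h)) (Subtype.ext f2)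
        (fun h => f3 (congrArg Subtype.val h)) (Subtype.ext f4)
        (fun h => f5 (congrArg Subtype.val h)) (Subtype.ext f6)
      have hp3 : p ≠ 3 := by rintro rfl; omega
      have hp60 : ¬ p ∣ 60 := by
        intro h
        have h60 : (60 : ℕ) = 2 * 2 * 3 * 5 := by norm_num
        rw [h60] at h
        rcases (Nat.Prime.dvd_mul hpp).mp h with h | h
        · rcases (Nat.Prime.dvd_mul hpp).mp h with h | h
          · rcases (Nat.Prime.dvd_mul hpp).mp h with h | h
            · exact hp2 ((Nat.prime_dvd_prime_iff_eq hpp Nat.prime_two).mp h)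
            · exact hp2 ((Nat.prime_dvd_prime_iff_eq hpp Nat.prime_two).mp h)
          · exact hp3 ((Nat.prime_dvd_prime_iff_eq hpp Nat.prime_three).mp h)
        · exact hp5 ((Nat.prime_dvd_prime_iff_eq hpp Nat.prime_five).mp h)
      have hle : Fintype.card F ≤ p := by
        apply card_le_of_forall_pow_eq p hpp.one_lt
        intro a
        have := tau_trivial_of_orders p hodd M hM _ hx (e.symm _).2 (e.symm _).2
          (A5_orders M e) (iterateFrobenius F p 1) (iterateFrobenius_fixed p 1)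
          (quad_fixed_of_sqrt h2 (iterateFrobenius F p 1) s hs
            (iterateFrobenius_fixed p 1 s hsp)) (uu 1) (by rw [TT_uu, map_one])
          (by rw [orderOf_mk_uu p h2]
              exact orderOf_ne_of_not_dvd M p (by rw [hcard]; exact hp60)) a
        rwa [iterateFrobenius_def, pow_one] at this
      rw [h] at hle
      have : p * 2 ≤ p * p := Nat.mul_le_mul_left p hpp.two_le
      have hp1 := hpp.one_lt
      nlinarith

end Cfsg.Agent.Lib.Helper5.PSL2MaxOdd
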