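import Mathlib
import Cfsg.Agent.Lib.Helper5.PSL2MaxOdd.SylowMax
import Cfsg.Agent.Lib.Helper5.PSL2MaxOdd.TameA5
import Cfsg.Agent.Lib.Helper5.PSL2A5
import Cfsg.Agent.Lib.Helper5.PSL2S4

set_option autoImplicit false

/-! Local subgroups of `PSL₂(F)` which are not maximal for small `q`, and refinements for `A₄`. -/

namespace Cfsg.Agent.Lib.Helper5.PSL2MaxOdd

open Matrix Cfsg.Agent.Lib.Helper5.SL2Cyclic Cfsg.Agent.Lib.Helper5.SL2Quat
  Cfsg.Agent.Lib.Helper5.SL2Four Cfsg.Agent.Lib.Helper5.PSL2Pairs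
  Cfsg.Agent.Lib.Helper5.PSL2KleinClasses Cfsg.Agent.Lib.Helper5.PairOrbits
  Cfsg.Agent.Lib.Helper5.SumTwoSq Cfsg.Agent.Lib.Helper5.DicksonOrders
  Cfsg.Agent.Lib.Helper5.DicksonMax
open scoped MatrixGroups

section generic

variable {G H : Type*} [Group G] [Group H]

theorem conj_of_iso (M : Subgroup G) (e : M ≃* H) (g c : H) :
    ((e.symm g : M) : G) * ((e.symm c : M) : G) * ((e.symm g : M) : G)⁻¹ =
      ((e.symm (g * c * g⁻¹) : M) : G) := by
  rw [map_mul, map_mul, map_inv]; rfl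

theorem kvP_le (M : Subgroup G) (x : G × G) (hx : x ∈ PairSet G) (h1 : x.1 ∈ M) (h2 : x.2 ∈ M) :
    kvP x hx ≤ M := by
  intro z hz
  rcases (mem_kvP x hx z).mp hz with h | h | h | h
  · rw [h]; exact M.one_mem
  · rw [h]; exact h1
  · rw [h]; exact h2
  · rw [h]; exact M.mul_mem h1 h2

theorem mem_normalizer_kvP [Finite G] (x : G × G) (hx : x ∈ PairSet G) (m : G)
    (h1 : m * x.1 * m⁻¹ ∈ kvP x hx) (h2 : m * x.2 * m⁻¹ ∈ kvP x hx) :
    m ∈ Subgroup.normalizer ((kvP x hx : Subgroup G) : Set G) := by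
  apply Subgroup.mem_normalizer_fintype
  intro n hn
  rcases (mem_kvP x hx n).mp hn with h | h | h | h
  · rw [h, mul_one, mul_inv_cancel]; exact (kvP x hx).one_mem
  · rw [h]; exact h1
  · rw [h]; exact h2
  · rw [h]
    have : m * (x.1 * x.2) * m⁻¹ = (m * x.1 * m⁻¹) * (m * x.2 * m⁻¹) := by group
    rw [this]
    exact (kvP x hx).mul_mem h1 h2

/-- a group isomorphic to `A₄` has a normal four-subgroup -/
theorem normal_four_of_A4 [Finite G] (M : Subgroup G) (e : M ≃* alternatingGroup (Fin 4)) :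
    ∃ V : Subgroup G, V ≤ M ∧ M ≤ Subgroup.normalizer (V : Set G) ∧ Nat.card V = 4 := by
  obtain ⟨f1, f2, f3, f4, f5, f6, f7, f8⟩ := a4_facts
  have ha : a4 ∈ alternatingGroup (Fin 4) := Equiv.Perm.mem_alternatingGroup.mpr f7
  have hb : b4 ∈ alternatingGroup (Fin 4) := Equiv.Perm.mem_alternatingGroup.mpr f8
  have hx := pair_of_iso M e (⟨a4, ha⟩ : alternatingGroup (Fin 4)) ⟨b4, hb⟩
    (fun h => f1 (congrArg Subtype.val h)) (Subtype.ext f2)
    (fun h => f3 (congrArg Subtype.val h)) (Subtype.ext f4)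
    (fun h => f5 (congrArg Subtype.val h)) (Subtype.ext f6)
  have hn : ∀ c : Equiv.Perm (Fin 4), ∀ hc : c ∈ alternatingGroup (Fin 4),
      (∀ g : Equiv.Perm (Fin 4), g * c * g⁻¹ = 1 ∨ g * c * g⁻¹ = a4 ∨ g * c * g⁻¹ = b4 ∨
        g * c * g⁻¹ = a4 * b4) →
      ∀ g : alternatingGroup (Fin 4), g * ⟨c, hc⟩ * g⁻¹ = 1 ∨ g * ⟨c, hc⟩ * g⁻¹ = ⟨a4, ha⟩ ∨
        g * ⟨c, hc⟩ * g⁻¹ = ⟨b4, hb⟩ ∨ g * ⟨c, hc⟩ * g⁻¹ = ⟨a4, ha⟩ * ⟨b4, hb⟩ := by
    intro c hc h g
    rcases h g.1 with h | h | h | h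
    · left; exact Subtype.ext h
    · right; left; exact Subtype.ext h
    · right; right; left; exact Subtype.ext h
    · right; right; right; exact Subtype.ext h
  refine ⟨kvP _ hx, kvP_le M _ hx (e.symm _).2 (e.symm _).2, ?_, (isKleinFour_kvP _ hx).card_four⟩
  intro m hm
  exact mem_normalizer_kvP _ hx m
    (normal_of_iso M e _ _ hx ⟨a4, ha⟩ (hn a4 ha (fun g => (a4_normal g).1)) m hm)
    (normal_of_iso M e _ _ hx ⟨b4, hb⟩ (hn b4 hb (fun g => (a4_normal g).2)) m hm)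

/-- a three-cycle normalising the four-group of `A₅` -/
def c5 : Equiv.Perm (Fin 5) := Equiv.swap 0 1 * Equiv.swap 1 2

theorem c5_facts : Equiv.Perm.sign c5 = 1 ∧ c5 ≠ 1 ∧ c5 ^ 3 = 1 ∧ c5 * a5 * c5⁻¹ = a5 * b5 ∧
    c5 * b5 * c5⁻¹ = a5 := by
  decide

/-- a group isomorphic to `A₅` has a four-subgroup with a normaliser of order divisible by `12` -/
theorem four_in_A5 [Finite G] (S : Subgroup G) (e : S ≃* alternatingGroup (Fin 5)) :
    ∃ Q K : Subgroup G, Nat.card Q = 4 ∧ K ≤ S ∧ K ≤ Subgroup.normalizer (Q : Set G) ∧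
      12 ≤ Nat.card K := by
  obtain ⟨f1, f2, f3, f4, f5, f6, f7, f8⟩ := a5_facts
  obtain ⟨g1, g2, g3, g4, g5⟩ := c5_facts
  have ha : a5 ∈ alternatingGroup (Fin 5) := Equiv.Perm.mem_alternatingGroup.mpr f7
  have hb : b5 ∈ alternatingGroup (Fin 5) := Equiv.Perm.mem_alternatingGroup.mpr f8
  have hc : c5 ∈ alternatingGroup (Fin 5) := Equiv.Perm.mem_alternatingGroup.mpr g1
  have hx := pair_of_iso S e (⟨a5, ha⟩ : alternatingGroup (Fin 5)) ⟨b5, hb⟩
    (fun h => f1 (congrArg Subtype.val h)) (Subtype.ext f2)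
    (fun h => f3 (congrArg Subtype.val h)) (Subtype.ext f4)
    (fun h => f5 (congrArg Subtype.val h)) (Subtype.ext f6)
  set Q := kvP _ hx with hQ
  have hQS : Q ≤ S := kvP_le S _ hx (e.symm _).2 (e.symm _).2
  have hQ4 : Nat.card Q = 4 := (isKleinFour_kvP _ hx).card_four
  set c : G := ((e.symm ⟨c5, hc⟩ : S) : G) with hcdef
  have hcS : c ∈ S := (e.symm _).2
  have hcN : c ∈ Subgroup.normalizer (Q : Set G) := by
    apply mem_normalizer_kvP _ hx
    · rw [hcdef, conj_of_iso, mem_kvP]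
      right; right; right
      rw [coe_symm_mul]
      congr 2
      exact Subtype.ext g4
    · rw [hcdef, conj_of_iso, mem_kvP]
      right; left
      congr 2
      exact Subtype.ext g5
  have hc3 : orderOf c = 3 := by
    have : Fact (Nat.Prime 3) := ⟨Nat.prime_three⟩
    apply orderOf_eq_prime
    · rw [hcdef, ← Subgroup.coe_pow, ← map_pow]
      have : (⟨c5, hc⟩ : alternatingGroup (Fin 5)) ^ 3 = 1 := by
        apply Subtype.ext
        rw [Subgroup.coe_pow]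
        exact g3
      rw [this, map_one]; rfl
    · intro h
      apply g2
      have := (coe_symm_eq_one_iff S e ⟨c5, hc⟩).mp h
      exact congrArg Subtype.val this
  refine ⟨Q, S ⊓ Subgroup.normalizer (Q : Set G), hQ4, inf_le_left, inf_le_right, ?_⟩
  have h4 : 4 ∣ Nat.card (S ⊓ Subgroup.normalizer (Q : Set G) : Subgroup G) := by
    rw [← hQ4]
    exact Subgroup.card_dvd_of_le (le_inf hQS Subgroup.le_normalizer)
  have h3 : 3 ∣ Nat.card (S ⊓ Subgroup.normalizer (Q : Set G) : Subgroup G) := by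
    have hmem : c ∈ S ⊓ Subgroup.normalizer (Q : Set G) := ⟨hcS, hcN⟩
    have := orderOf_dvd_natCard (⟨c, hmem⟩ : (S ⊓ Subgroup.normalizer (Q : Set G) : Subgroup G))
    rwa [← Subgroup.orderOf_coe, hc3] at this
  have h12 : 12 ∣ Nat.card (S ⊓ Subgroup.normalizer (Q : Set G) : Subgroup G) := by omega
  exact Nat.le_of_dvd Nat.card_pos h12

end generic

variable {F : Type*} [Field F] [Fintype F]

local notation "SL2" => Matrix.SpecialLinearGroup (Fin 2) F
local notation "PSL2" => Matrix.ProjectiveSpecialLinearGroup (Fin 2) F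

theorem isSimpleGroup_PSL2 (h4 : 4 ≤ Fintype.card F) : IsSimpleGroup PSL2 :=
  Matrix.ProjectiveSpecialLinearGroup.rank_two_simple (by
    rw [Nat.card_eq_fintype_card]; exact h4)

theorem two_mul_card_PSL2 (hodd : Fintype.card F % 2 = 1) :
    2 * Nat.card PSL2 = Fintype.card F * ((Fintype.card F - 1) * (Fintype.card F + 1)) := by
  have := card_PSL2_mul (F := F)
  rwa [gcd_two_of_odd hodd] at this

open Cfsg.Agent.Lib.Helper5.PSL2A4 Cfsg.Agent.Lib.Helper5.PSL2S4 Cfsg.Agent.Lib.Helper5.PSL2A5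

theorem card_A4' : Nat.card (alternatingGroup (Fin 4)) = 12 := by
  have h1 := (alternatingGroup (Fin 4)).card_mul_index
  rw [alternatingGroup.index_eq_two, Nat.card_eq_fintype_card (α := Equiv.Perm (Fin 4)),
    Fintype.card_perm, Fintype.card_fin] at h1
  have : (4 : ℕ).factorial = 24 := rfl
  omega

theorem card_S4' : Nat.card (Equiv.Perm (Fin 4)) = 24 := by
  rw [Nat.card_eq_fintype_card, Fintype.card_perm, Fintype.card_fin]; rfl

theorem exists_sub_A4 (hodd : Fintype.card F % 2 = 1) :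
    ∃ S : Subgroup PSL2, Nat.card S = 12 := by
  obtain ⟨S, ⟨e⟩⟩ := exists_A4_odd (F := F) hodd
  exact ⟨S, by rw [Nat.card_congr e.toEquiv, card_A4']⟩

theorem exists_sub_S4 (hodd : Fintype.card F % 2 = 1)
    (h8 : Fintype.card F % 8 = 1 ∨ Fintype.card F % 8 = 7) :
    ∃ S : Subgroup PSL2, Nat.card S = 24 := by
  have hsq : IsSquare (2 : F) := FiniteField.isSquare_two_iff.mpr (by omega)
  obtain ⟨s, hs⟩ := hsq
  obtain ⟨S, ⟨e⟩⟩ := exists_S4 (F := F) hodd s hs.symm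
  exact ⟨S, by rw [Nat.card_congr e.toEquiv, card_S4']⟩

theorem exists_sub_A5 (hodd : Fintype.card F % 2 = 1)
    (h5 : Fintype.card F % 5 = 0 ∨ Fintype.card F % 5 = 1 ∨ Fintype.card F % 5 = 4) :
    ∃ S : Subgroup PSL2, Nonempty (S ≃* alternatingGroup (Fin 5)) := by
  obtain ⟨φ, hφ⟩ := exists_phi (F := F) hodd h5
  exact exists_A5_odd hodd φ hφ

/-- the general form of the local argument in `PSL₂(F)` -/
theorem no_coatom_aux (h4 : 4 ≤ Fintype.card F) (M : Subgroup PSL2) (hM : IsCoatom M) (ℓ : ℕ)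
    [Fact ℓ.Prime] (a m : ℕ) (hG : Nat.card PSL2 = ℓ ^ a * m) (hm : ¬ ℓ ∣ m) (ha : a ≠ 0)
    (hcM : Nat.card M = ℓ ^ a ∨ Nat.card M = 2 * ℓ ^ a) (S : Subgroup PSL2)
    (hS1 : Nat.card S ≠ Nat.card M) (hS2 : Nat.card S < Nat.card PSL2)
    (hQK : ∃ Q K : Subgroup PSL2, Nat.card Q = ℓ ^ a ∧ K ≤ S ∧
      K ≤ Subgroup.normalizer (Q : Set PSL2) ∧ Nat.card M ≤ Nat.card K) : False := by
  have := isSimpleGroup_PSL2 (F := F) h4
  obtain ⟨Q, K, hQ, hKS, hKQ, hK⟩ := hQK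
  refine not_coatom_of_card ℓ a m hG hm M hM ha hcM S Q K hQ hKS hKQ hK hS1 ?_
  intro h
  rw [h, Subgroup.card_top] at hS2
  exact lt_irrefl _ hS2

/-- the small dihedral subgroups are not maximal -/
theorem no_dihedral_small (hodd : Fintype.card F % 2 = 1) (M : Subgroup PSL2) (hM : IsCoatom M)
    (k : ℕ) (e : M ≃* DihedralGroup k)
    (h : (Fintype.card F = 5 ∧ k = 2) ∨ (Fintype.card F = 7 ∧ k = 3) ∨
      (Fintype.card F = 7 ∧ k = 4) ∨ (Fintype.card F = 9 ∧ k = 4) ∨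
      (Fintype.card F = 9 ∧ k = 5) ∨ (Fintype.card F = 11 ∧ k = 5)) : False := by
  have hG2 := two_mul_card_PSL2 (F := F) hodd
  have hcM : Nat.card M = 2 * k := by rw [Nat.card_congr e.toEquiv, DihedralGroup.nat_card]
  have h2 : Fact (Nat.Prime 2) := ⟨Nat.prime_two⟩
  have h3 : Fact (Nat.Prime 3) := ⟨Nat.prime_three⟩
  have h5 : Fact (Nat.Prime 5) := ⟨Nat.prime_five⟩
  rcases h with ⟨hq, rfl⟩ | ⟨hq, rfl⟩ | ⟨hq, rfl⟩ | ⟨hq, rfl⟩ | ⟨hq, rfl⟩ | ⟨hq, rfl⟩
  · -- q = 5, order 4 inside A₄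
    rw [hq] at hG2
    have hG : Nat.card PSL2 = 2 ^ 2 * 15 := by omega
    obtain ⟨S, hS⟩ := exists_sub_A4 (F := F) hodd
    obtain ⟨Q, hQS, hQ⟩ := exists_sub_of_card 2 2 S (by rw [hS]; norm_num)
    exact no_coatom_aux (by omega) M hM 2 2 15 hG (by norm_num) (by norm_num)
      (Or.inl (by rw [hcM]; norm_num)) S (by rw [hS, hcM]; norm_num) (by rw [hS, hG]; norm_num)
      ⟨Q, Q, hQ, hQS, Subgroup.le_normalizer, by rw [hcM, hQ]; norm_num⟩
  · -- q = 7, order 6 inside S₄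
    rw [hq] at hG2
    have hG : Nat.card PSL2 = 3 ^ 1 * 56 := by omega
    obtain ⟨S, hS⟩ := exists_sub_S4 (F := F) hodd (by omega)
    obtain ⟨Q, K, hQ, hKS, hKQ, hK⟩ := exists_sylow_normalizer 3 1 8 S (by rw [hS]; norm_num) (by norm_num) 6
      (by
        intro d hd hmod
        have := Nat.le_of_dvd (by norm_num) hd
        interval_cases d <;> omega)
    exact no_coatom_aux (by omega) M hM 3 1 56 hG (by norm_num) (by norm_num)
      (Or.inr (by rw [hcM]; norm_num)) S (by rw [hS, hcM]; norm_num) (by rw [hS, hG]; norm_num)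
      ⟨Q, K, hQ, hKS, hKQ, by rw [hcM]; exact hK⟩
  · -- q = 7, order 8 inside S₄
    rw [hq] at hG2
    have hG : Nat.card PSL2 = 2 ^ 3 * 21 := by omega
    obtain ⟨S, hS⟩ := exists_sub_S4 (F := F) hodd (by omega)
    obtain ⟨Q, hQS, hQ⟩ := exists_sub_of_card 2 3 S (by rw [hS]; norm_num)
    exact no_coatom_aux (by omega) M hM 2 3 21 hG (by norm_num) (by norm_num)
      (Or.inl (by rw [hcM]; norm_num)) S (by rw [hS, hcM]; norm_num) (by rw [hS, hG]; norm_num)
      ⟨Q, Q, hQ, hQS, Subgroup.le_normalizer, by rw [hcM, hQ]; norm_num⟩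
  · -- q = 9, order 8 inside S₄
    rw [hq] at hG2
    have hG : Nat.card PSL2 = 2 ^ 3 * 45 := by omega
    obtain ⟨S, hS⟩ := exists_sub_S4 (F := F) hodd (by omega)
    obtain ⟨Q, hQS, hQ⟩ := exists_sub_of_card 2 3 S (by rw [hS]; norm_num)
    exact no_coatom_aux (by omega) M hM 2 3 45 hG (by norm_num) (by norm_num)
      (Or.inl (by rw [hcM]; norm_num)) S (by rw [hS, hcM]; norm_num) (by rw [hS, hG]; norm_num)
      ⟨Q, Q, hQ, hQS, Subgroup.le_normalizer, by rw [hcM, hQ]; norm_num⟩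
  · -- q = 9, order 10 inside A₅
    rw [hq] at hG2
    have hG : Nat.card PSL2 = 5 ^ 1 * 72 := by omega
    obtain ⟨S, ⟨eS⟩⟩ := exists_sub_A5 (F := F) hodd (by omega)
    have hS : Nat.card S = 60 := by rw [Nat.card_congr eS.toEquiv, card_A5]
    obtain ⟨Q, K, hQ, hKS, hKQ, hK⟩ := exists_sylow_normalizer 5 1 12 S (by rw [hS]; norm_num)
      (by norm_num) 10
      (by
        intro d hd hmod
        have := Nat.le_of_dvd (by norm_num) hd
        interval_cases d <;> omega)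
    exact no_coatom_aux (by omega) M hM 5 1 72 hG (by norm_num) (by norm_num)
      (Or.inr (by rw [hcM]; norm_num)) S (by rw [hS, hcM]; norm_num) (by rw [hS, hG]; norm_num)
      ⟨Q, K, hQ, hKS, hKQ, by rw [hcM]; exact hK⟩
  · -- q = 11, order 10 inside A₅
    rw [hq] at hG2
    have hG : Nat.card PSL2 = 5 ^ 1 * 132 := by omega
    obtain ⟨S, ⟨eS⟩⟩ := exists_sub_A5 (F := F) hodd (by omega)
    have hS : Nat.card S = 60 := by rw [Nat.card_congr eS.toEquiv, card_A5]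
    obtain ⟨Q, K, hQ, hKS, hKQ, hK⟩ := exists_sylow_normalizer 5 1 12 S (by rw [hS]; norm_num)
      (by norm_num) 10
      (by
        intro d hd hmod
        have := Nat.le_of_dvd (by norm_num) hd
        interval_cases d <;> omega)
    exact no_coatom_aux (by omega) M hM 5 1 132 hG (by norm_num) (by norm_num)
      (Or.inr (by rw [hcM]; norm_num)) S (by rw [hS, hcM]; norm_num) (by rw [hS, hG]; norm_num)
      ⟨Q, K, hQ, hKS, hKQ, by rw [hcM]; exact hK⟩

/-- `A₄` is not maximal when `8` divides the order of the group -/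
theorem A4_mod8 (hodd : Fintype.card F % 2 = 1) (h5 : 5 ≤ Fintype.card F) (M : Subgroup PSL2)
    (hM : IsCoatom M) (e : M ≃* alternatingGroup (Fin 4)) :
    Fintype.card F % 8 = 3 ∨ Fintype.card F % 8 = 5 := by
  by_contra hcon
  have h8 : Fintype.card F % 8 = 1 ∨ Fintype.card F % 8 = 7 := by omega
  have := isSimpleGroup_PSL2 (F := F) (by omega)
  obtain ⟨V, hVM, hN, hV⟩ := normal_four_of_A4 M e
  have hcM : Nat.card M = 12 := by rw [Nat.card_congr e.toEquiv, card_A4']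
  have hG2 := two_mul_card_PSL2 (F := F) hodd
  have hdvd : 2 ^ (2 + 1) ∣ Nat.card PSL2 := by
    rcases h8 with h | h
    · obtain ⟨t, ht⟩ : ∃ t, Fintype.card F = 8 * t + 1 := ⟨Fintype.card F / 8, by omega⟩
      have e1 : Fintype.card F - 1 = 8 * t := by omega
      have e2 : Fintype.card F + 1 = 2 * (4 * t + 1) := by omega
      rw [e1, e2] at hG2
      refine ⟨Fintype.card F * t * (4 * t + 1), ?_⟩
      have : 2 * Nat.card PSL2 = 2 * (2 ^ (2 + 1) * (Fintype.card F * t * (4 * t + 1))) := by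
        rw [hG2]; ring
      exact Nat.eq_of_mul_eq_mul_left (by norm_num) this
    · obtain ⟨t, ht⟩ : ∃ t, Fintype.card F = 8 * t + 7 := ⟨Fintype.card F / 8, by omega⟩
      have e1 : Fintype.card F - 1 = 2 * (4 * t + 3) := by omega
      have e2 : Fintype.card F + 1 = 8 * (t + 1) := by omega
      rw [e1, e2] at hG2
      refine ⟨Fintype.card F * (4 * t + 3) * (t + 1), ?_⟩
      have : 2 * Nat.card PSL2 =
          2 * (2 ^ (2 + 1) * (Fintype.card F * (4 * t + 3) * (t + 1))) := by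
        rw [hG2]; ring
      exact Nat.eq_of_mul_eq_mul_left (by norm_num) this
  exact not_coatom_of_not_sylow_two 2 M V hM hVM hN (by rw [hV]; norm_num) (by norm_num) hdvd
    (by rw [hcM]; norm_num)

/-- `A₄` is not maximal when there is a subgroup `A₅` -/
theorem A4_mod10 (hodd : Fintype.card F % 2 = 1) (h5 : 5 ≤ Fintype.card F)
    (h8 : Fintype.card F % 8 = 3 ∨ Fintype.card F % 8 = 5) (M : Subgroup PSL2)
    (hM : IsCoatom M) (e : M ≃* alternatingGroup (Fin 4)) :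
    ¬ (Fintype.card F % 10 = 1 ∨ Fintype.card F % 10 = 9) := by
  intro h10
  have := isSimpleGroup_PSL2 (F := F) (by omega)
  obtain ⟨V, hVM, hN, hV⟩ := normal_four_of_A4 M e
  have hcM : Nat.card M = 12 := by rw [Nat.card_congr e.toEquiv, card_A4']
  obtain ⟨m, hm2, hGm⟩ := Cfsg.Agent.Lib.Helper5.PSL2Klein.card_PSL2 (F := F) h8
  obtain ⟨S, ⟨eS⟩⟩ := exists_sub_A5 (F := F) hodd (by omega)
  have hS : Nat.card S = 60 := by rw [Nat.card_congr eS.toEquiv, card_A5]
  obtain ⟨Q, K, hQ, hKS, hKQ, hK⟩ := four_in_A5 S eS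
  have hq11 : 11 ≤ Fintype.card F := by omega
  have hG2 := two_mul_card_PSL2 (F := F) hodd
  have hGbig : 60 < Nat.card PSL2 := by
    have : 11 * (10 * 12) ≤
        Fintype.card F * ((Fintype.card F - 1) * (Fintype.card F + 1)) :=
      Nat.mul_le_mul hq11 (Nat.mul_le_mul (by omega) (by omega))
    omega
  have h2 : Fact (Nat.Prime 2) := ⟨Nat.prime_two⟩
  refine not_coatom_of_sylow 2 2 m (by rw [hGm]; norm_num) hm2 M V hM hVM hN
    (by rw [hV]; norm_num) (by norm_num) S Q K (by rw [hQ]; norm_num) hKS hKQ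
    (by rw [hcM]; exact hK) (by rw [hS, hcM]; norm_num) ?_
  intro h
  rw [h, Subgroup.card_top] at hS
  omega

end Cfsg.Agent.Lib.Helper5.PSL2MaxOdd
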