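import Mathlib
import Cfsg.Agent.Lib.Helper5.PSL2Max4

set_option autoImplicit false

/-! The characteristic does not divide the orders of the point stabilisers in the tame
polyhedral configurations. -/

namespace Cfsg.Agent.Lib.Helper5.Mob

open Classical

variable {G X A : Type*} [Group G] [MulAction G X] [CommGroup A] {p : ℕ} (M : IsMob G X A p)

theorem IsMob.Tame3.not_dvd [Fact p.Prime] [Finite G] {k g : ℕ} (h : M.Tame3 k g) :
    ¬ p ∣ 2 ∧ ¬ p ∣ 3 ∧ ¬ p ∣ k := by
  obtain ⟨a, b, c, -, ha, hb, hc, hqa, hqb, hqc, -, -⟩ := h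
  have h1 : ee G a = M.qq a * M.cc a := M.card_stabilizer a
  have h2 : ee G b = M.qq b * M.cc b := M.card_stabilizer b
  have h3 : ee G c = M.qq c * M.cc c := M.card_stabilizer c
  rw [ha, hqa, one_mul] at h1
  rw [hb, hqb, one_mul] at h2
  rw [hc, hqc, one_mul] at h3
  refine ⟨?_, ?_, ?_⟩
  · rw [h1]; exact M.not_dvd_cc a
  · rw [h2]; exact M.not_dvd_cc b
  · rw [h3]; exact M.not_dvd_cc c

end Cfsg.Agent.Lib.Helper5.Mob
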